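import Groth.Agent.SSMod.K373.Core
import Groth.Agent.SSMod.K755.Plan
import Groth.Agent.SSMod.K971.BaseChange
import Groth.Agent.Cone.K859.Aff

/-!
# TDATA: exceptional components and contractible closed subsets of the closed fibre
-/

set_option autoImplicit false

universe u

open CategoryTheory CategoryTheory.Limits AlgebraicGeometry TopologicalSpace

namespace K373.TData

open K342.P1Locus K342.P1Red K342.Radic K373.GenPt K373.Node K373.Core Groth.Agent

section Quot

variable (R : Type u) [CommRing R] [IsDomain R] [ValuationRing R] (q : Spec (CommRingCat.of R))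

theorem valuationRing_quot : ValuationRing (R ⧸ q.asIdeal) :=
  Function.Surjective.valuationRing (Ideal.Quotient.mk q.asIdeal) Ideal.Quotient.mk_surjective

theorem isAlgClosed_quot [IsAlgClosed (FractionRing R)] : IsAlgClosed (FractionRing (R ⧸ q.asIdeal)) := by
  have h := K122.ValBase.isAlgClosed_residueField R q
  let e1 : (Spec (CommRingCat.of R)).residueField q ≃+* q.asIdeal.ResidueField :=
    (Scheme.Spec.residueFieldIso (CommRingCat.of R) q).commRingCatIsoToRingEquiv
  let e2 : FractionRing (R ⧸ q.asIdeal) ≃ₐ[R ⧸ q.asIdeal] q.asIdeal.ResidueField :=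
    FractionRing.algEquiv (R ⧸ q.asIdeal) q.asIdeal.ResidueField
  exact IsAlgClosed.of_ringEquiv _ _ (e1.trans e2.toRingEquiv.symm)

/-- The closed subscheme `Spec R/q`. -/
noncomputable def ι : Spec (CommRingCat.of (R ⧸ q.asIdeal)) ⟶ Spec (CommRingCat.of R) :=
  Spec.map (CommRingCat.ofHom (Ideal.Quotient.mk q.asIdeal))

instance : IsClosedImmersion (ι R q) :=
  IsClosedImmersion.spec_of_surjective _ Ideal.Quotient.mk_surjective

theorem ι_closedPoint [IsLocalRing (R ⧸ q.asIdeal)] :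
    ι R q (IsLocalRing.closedPoint (R ⧸ q.asIdeal)) = IsLocalRing.closedPoint R := by
  have : IsLocalHom (Ideal.Quotient.mk q.asIdeal) := IsLocalHom.of_surjective _ Ideal.Quotient.mk_surjective
  exact IsLocalRing.comap_closedPoint (Ideal.Quotient.mk q.asIdeal)

theorem ι_generic : ι R q (genericPoint (Spec (CommRingCat.of (R ⧸ q.asIdeal)))) = q := by
  let β : PrimeSpectrum (R ⧸ q.asIdeal) := ⊥
  have h0 : genericPoint (Spec (CommRingCat.of (R ⧸ q.asIdeal))) = β :=
    genericPoint_eq_bot_of_affine (CommRingCat.of (R ⧸ q.asIdeal))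
  rw [h0]
  apply PrimeSpectrum.ext
  change Ideal.comap (Ideal.Quotient.mk q.asIdeal) ⊥ = q.asIdeal
  exact Ideal.mk_ker

end Quot

theorem main : K755.SSPlan.TData.{u} := by
  intro R _ _ _ _ V X D' _ φ _ f _ i' hss Ω _ _ g Z hZ hexc c hc hZc
  obtain ⟨⟨e, he1, he2, he3⟩, hcard, hsub⟩ := hexc
  let q : Spec (CommRingCat.of R) := g (IsLocalRing.closedPoint Ω)
  let A := R ⧸ q.asIdeal
  have hAv : ValuationRing A := valuationRing_quot R q
  have hAc : IsAlgClosed (FractionRing A) := isAlgClosed_quot R q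
  -- the geometric point of `Spec A`
  have hgr : Set.range g ⊆ Set.range (ι R q) := by
    rintro _ ⟨w, rfl⟩
    refine ⟨genericPoint _, ?_⟩
    rw [ι_generic]
    change g (IsLocalRing.closedPoint Ω) = g w
    congr 1
    exact Subsingleton.elim (α := PrimeSpectrum Ω) _ _
  obtain ⟨gA, hgA⟩ := exists_lift g (ι R q) hgr
  have hgAη : gA (IsLocalRing.closedPoint Ω) = genericPoint (Spec (CommRingCat.of A)) := by
    apply (ι R q).isClosedEmbedding.injective
    rw [ι_generic, ← Scheme.Hom.comp_apply, hgA]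
  -- base change
  let aV := pullback.fst φ (ι R q)
  let φA := pullback.snd φ (ι R q)
  have haV : IsClosedImmersion aV := MorphismProperty.pullback_fst _ _ inferInstance
  let aX := pullback.fst f aV
  let fA := pullback.snd f aV
  have haX : IsClosedImmersion aX := MorphismProperty.pullback_fst _ _ haV
  have sqV : IsPullback aV φA φ (ι R q) := IsPullback.of_hasPullback _ _
  have sqX0 : IsPullback aX fA f aV := IsPullback.of_hasPullback _ _
  have sqX : IsPullback aX (fA ≫ φA) (f ≫ φ) (ι R q) := sqX0.paste_vert sqV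
  let aD := pullback.fst i' aX
  let iA := pullback.snd i' aX
  have sqD : IsPullback aD iA i' aX := IsPullback.of_hasPullback _ _
  have hssA := K971.SSBaseChange.isSemistable_of_isPullback hss sqX sqD
  obtain ⟨-, hpA, hetA, hdisjA⟩ := hssA
  have hfl : Flat (f ≫ φ) := hss.1.1
  -- the geometric fibre
  let P := pullback (f ≫ φ) g
  let pr : P ⟶ X := pullback.fst (f ≫ φ) g
  let b : P ⟶ Spec (CommRingCat.of Ω) := pullback.snd (f ≫ φ) g
  have hw : pr ≫ f ≫ φ = (b ≫ gA) ≫ ι R q := by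
    rw [Category.assoc, hgA]
    exact pullback.condition
  let a : P ⟶ pullback f aV := sqX.lift pr (b ≫ gA) hw
  have ha1 : a ≫ aX = pr := sqX.lift_fst _ _ _
  have ha2 : a ≫ fA ≫ φA = b ≫ gA := sqX.lift_snd _ _ _
  have hP : IsPullback a b (fA ≫ φA) gA := by
    have h1 : IsPullback (a ≫ aX) b (f ≫ φ) (gA ≫ ι R q) := by
      rw [ha1, hgA]; exact IsPullback.of_hasPullback _ _
    exact IsPullback.of_right h1 ha2 sqX
  have hrange : ∀ x : ↥(pullback f aV), x ∈ Set.range iA ↔ aX x ∈ Set.range i' := by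
    intro x
    change x ∈ Set.range (pullback.snd i' aX) ↔ _
    rw [Scheme.Pullback.range_snd]
    rfl
  have hcardA : (Z ∩ (a ⁻¹' Set.range iA ∪ DualGr.nonsmoothPts b)).encard ≤ 2 := by
    have h1 : a ⁻¹' Set.range iA = pr ⁻¹' Set.range i' := by
      ext x
      rw [Set.mem_preimage, hrange, Set.mem_preimage, ← ha1]
      rfl
    rw [h1]
    exact hcard
  obtain ⟨z₀, hz₀⟩ := hZ.1.nonempty
  have hcomp : ∀ x : P, aV (fA (a x)) = f (pr x) := by
    intro x
    change (a ≫ fA ≫ aV) x = (pr ≫ f) x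
    rw [← sqX0.w, ← Category.assoc, ha1]
  have hbc : ∀ x : P, pullback.fst φ g (CInt.baseChangeOver f φ g x) = f (pr x) := by
    intro x
    change (CInt.baseChangeOver f φ g ≫ pullback.fst φ g) x = (pr ≫ f) x
    rw [CInt.baseChangeOver, pullback.lift_fst]
  have hv : ∀ x ∈ Z, fA (a x) = fA (a z₀) := by
    intro x hx
    apply aV.isClosedEmbedding.injective
    rw [hcomp, hcomp, ← hbc, ← hbc]
    congr 1
    exact hsub ⟨x, hx, rfl⟩ ⟨z₀, hz₀, rfl⟩
  obtain ⟨cA, hcA1, hcA2⟩ := exists_of_isPullback sqV c (IsLocalRing.closedPoint A) (by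
    rw [hc, ι_closedPoint])
  have hvc : fA (a z₀) ⤳ cA := by
    rw [← aV.isClosedEmbedding.isInducing.specializes_iff, hcomp, hcA1]
    exact hZc z₀ hz₀
  obtain ⟨F, j, h1, h2, h3, h4, h5, h6, h7⟩ := K373.Core.main φA fA hpA iA hetA hdisjA Ω gA hgAη a b hP Z hZ
    ⟨e, he1, he2, he3⟩ hcardA (fA (a z₀)) cA hv hvc hcA2
  have hcl : IsClosed (Set.range (j ≫ aX)) := (j ≫ aX).isClosedEmbedding.isClosed_range
  refine ⟨Set.range (j ≫ aX), hcl, ?_, ?_, ?_, ?_, ?_, ?_⟩
  · obtain ⟨y⟩ := h3.toNonempty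
    exact ⟨_, y, rfl⟩
  · rintro _ ⟨y, rfl⟩
    change f (aX (j y)) = c
    have h8 : fA (j y) = cA := h4 ⟨y, rfl⟩
    rw [← Scheme.Hom.comp_apply, sqX0.w, Scheme.Hom.comp_apply, h8, hcA1]
  · exact isPreconnected_range (j ≫ aX).continuous
  · rintro _ ⟨y, rfl⟩
    obtain ⟨ξ, ⟨w, rfl⟩, h8, h9⟩ := h5 (j y) ⟨y, rfl⟩
    refine ⟨aX (j w), ⟨w, rfl⟩, h8.map aX.continuous, fun h10 => h9 ?_⟩
    have h11 : ({j w} : Set ↥(pullback f aV)) = aX ⁻¹' {aX (j w)} := by
      ext x
      simp only [Set.mem_singleton_iff, Set.mem_preimage]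
      exact ⟨fun h => by rw [h], fun h => aX.isClosedEmbedding.injective h⟩
    rw [h11]
    exact h10.preimage aX.continuous
  · have hred := Groth.Agent.Ega1.ReducedSub.isReduced_subscheme_vanishingIdeal
      (⟨Set.range (j ≫ aX), hcl⟩ : Closeds X)
    obtain ⟨u, hu, -⟩ := exists_iso_of_range (redι (⟨Set.range (j ≫ aX), hcl⟩ : Closeds X)) (j ≫ aX)
      (range_redι _)
    exact (Cone.K859.Aff.subsingleton_HH_of_iso u 1).1 h6
  · refine le_trans (Set.encard_le_encard ?_) (le_trans (Set.encard_image_le aX _) h7)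
    rintro x ⟨⟨y, rfl⟩, hx⟩
    refine ⟨j y, ⟨⟨y, rfl⟩, ?_⟩, rfl⟩
    rcases hx with hx | hx
    · left
      have h8 : (f ≫ φ) ⁻¹' {IsLocalRing.closedPoint R} \ Set.range (j ≫ aX) ⊆
          aX '' ((fA ≫ φA) ⁻¹' {IsLocalRing.closedPoint A} \ Set.range j) := by
        rintro w ⟨hw1, hw2⟩
        obtain ⟨w', hw'1, hw'2⟩ := exists_of_isPullback sqX w (IsLocalRing.closedPoint A) (by
          rw [ι_closedPoint]; exact hw1)
        refine ⟨w', ⟨hw'2, ?_⟩, hw'1⟩
        rintro ⟨t, rfl⟩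
        exact hw2 ⟨t, hw'1⟩
      have h9 := closure_mono h8 hx
      rw [aX.isClosedEmbedding.closure_image_eq] at h9
      obtain ⟨w, hw1, hw2⟩ := h9
      have h10 : w = j y := aX.isClosedEmbedding.injective hw2
      rw [← h10]
      exact hw1
    · right
      rw [hrange]
      exact hx

end K373.TData
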