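import Groth.Agent.S1148
import Mathlib.AlgebraicGeometry.Morphisms.UniversallyOpen
import Mathlib.AlgebraicGeometry.Morphisms.FinitePresentation
import Mathlib.AlgebraicGeometry.Morphisms.Flat
import Mathlib.AlgebraicGeometry.Stalk

/-!
# Points without proper generizations

* `IsGen x`: `x` has no proper generization.
* `exists_isGen`: every point is a specialization of such a point.
* `exists_nbhd`: flat and of finite presentation over a domain: every point has an open neighbourhood all of whose
  generic points specialize to it.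
* `exists_generic_of_isDomain_stalk`.
-/

set_option autoImplicit false

universe u

open CategoryTheory CategoryTheory.Limits AlgebraicGeometry TopologicalSpace

namespace K373.GenPt

/-- `x` has no proper generization. -/
def IsGen {X : Type*} [TopologicalSpace X] (x : X) : Prop := ∀ z : X, z ⤳ x → z = x

section Top

variable {X : Type*} [TopologicalSpace X]

theorem exists_isGen [QuasiSober X] [T0Space X] (x : X) : ∃ z : X, z ⤳ x ∧ IsGen z := by
  obtain ⟨ζ, hζ⟩ := QuasiSober.sober isIrreducible_irreducibleComponent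
    (isClosed_irreducibleComponent (x := x))
  refine ⟨ζ, ?_, fun z hz => ?_⟩
  · rw [specializes_iff_mem_closure, hζ.def]
    exact mem_irreducibleComponent
  · have h1 : irreducibleComponent x ⊆ closure {z} := by
      rw [← hζ.def]
      exact closure_minimal (Set.singleton_subset_iff.2 hz.mem_closure) isClosed_closure
    have h2 : closure {z} ⊆ irreducibleComponent x :=
      (irreducibleComponent_mem_irreducibleComponents x).2 isIrreducible_singleton.closure h1
    have h3 : ζ ⤳ z := by
      rw [specializes_iff_mem_closure, hζ.def]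
      exact h2 (subset_closure rfl)
    exact (hz.antisymm h3).eq

theorem IsGen.closure_mem [QuasiSober X] [T0Space X] {x : X} (hx : IsGen x) :
    closure {x} ∈ irreducibleComponents X := by
  refine ⟨isIrreducible_singleton.closure, fun T hT hle => ?_⟩
  obtain ⟨ξ, hξ⟩ := QuasiSober.sober hT.closure isClosed_closure
  have h1 : ξ ⤳ x := by
    rw [specializes_iff_mem_closure, hξ.def]
    exact subset_closure (hle (subset_closure rfl))
  have h2 := hx ξ h1
  rw [h2] at hξ
  rw [hξ.def]
  exact subset_closure

theorem isGen_of_mem [T0Space X] {x : X} (hx : closure {x} ∈ irreducibleComponents X) : IsGen x := by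
  intro z hz
  have h1 : closure {x} ⊆ closure {z} :=
    closure_minimal (Set.singleton_subset_iff.2 hz.mem_closure) isClosed_closure
  have h2 : z ∈ closure {x} := hx.2 isIrreducible_singleton.closure h1 (subset_closure rfl)
  exact (hz.antisymm (specializes_iff_mem_closure.2 h2)).eq

/-- Generalizing maps preserve points without proper generizations. -/
theorem IsGen.map {Y : Type*} [TopologicalSpace Y] {f : X → Y} (hf : GeneralizingMap f) {x : X}
    (hx : IsGen x) : IsGen (f x) := by
  intro y hy
  obtain ⟨z, hz, rfl⟩ := hf hy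
  rw [hx z hz]

end Top

theorem finite_isGen {R : Type u} [CommRing R] [IsDomain R] {X : Scheme.{u}}
    (p : X ⟶ Spec (CommRingCat.of R)) [Flat p] [LocallyOfFinitePresentation p] {V : X.Opens}
    (hV : IsAffineOpen V) : {z : X | z ∈ V ∧ IsGen z}.Finite := by
  let φ : CommRingCat.of R ⟶ Γ(X, V) := Spec.preimage (hV.fromSpec ≫ p)
  have hφ : Spec.map φ = hV.fromSpec ≫ p := Spec.map_preimage _
  have h1 : Flat (Spec.map φ) := by rw [hφ]; infer_instance
  have h2 : LocallyOfFinitePresentation (Spec.map φ) := by rw [hφ]; infer_instance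
  have h3 : φ.hom.Flat := (HasRingHomProperty.Spec_iff (P := @Flat)).1 h1
  have h4 : φ.hom.FinitePresentation :=
    (HasRingHomProperty.Spec_iff (P := @LocallyOfFinitePresentation)).1 h2
  let _ : Algebra R Γ(X, V) := φ.hom.toAlgebra
  have h5 : Module.Flat R Γ(X, V) := h3
  have h6 : Algebra.FinitePresentation R Γ(X, V) := h4
  have h7 : (irreducibleComponents (PrimeSpectrum R)).Finite := by
    rw [irreducibleComponents_eq_singleton]
    exact Set.finite_singleton _
  have h8 := Groth.Agent.S1148.result R Γ(X, V) h7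
  refine Set.Finite.subset ((h8.preimage (f := fun P : PrimeSpectrum Γ(X, V) => closure {P}) ?_).image
    hV.fromSpec) ?_
  · intro P _ Q _ h
    have h9 : P ⤳ Q := by
      rw [specializes_iff_mem_closure]
      have : Q ∈ closure {Q} := subset_closure rfl
      change closure {P} = closure {Q} at h
      rw [h]
      exact this
    have h10 : Q ⤳ P := by
      rw [specializes_iff_mem_closure]
      have : P ∈ closure {P} := subset_closure rfl
      change closure {P} = closure {Q} at h
      rw [← h]
      exact this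
    exact (h9.antisymm h10).eq
  · rintro z ⟨hz, hg⟩
    obtain ⟨P, rfl⟩ : z ∈ Set.range hV.fromSpec := by
      rw [hV.range_fromSpec]; exact hz
    refine ⟨P, ?_, rfl⟩
    change closure {(P : PrimeSpectrum Γ(X, V))} ∈ irreducibleComponents (PrimeSpectrum Γ(X, V))
    have h9 : IsGen (X := ↥(Spec Γ(X, V))) P := by
      intro Q hQ
      apply hV.fromSpec.isOpenEmbedding.injective
      exact hg _ (hQ.map hV.fromSpec.continuous)
    exact IsGen.closure_mem (X := ↥(Spec Γ(X, V))) h9

/-- Every point has an open neighbourhood all of whose generic points specialize to it. -/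
theorem exists_nbhd {R : Type u} [CommRing R] [IsDomain R] {X : Scheme.{u}}
    (p : X ⟶ Spec (CommRingCat.of R)) [Flat p] [LocallyOfFinitePresentation p] (x : X) :
    ∃ U : X.Opens, x ∈ U ∧ ∀ w ∈ U, ∀ z : X, IsGen z → z ⤳ w → z ⤳ x := by
  obtain ⟨V, hV, hxV, -⟩ := exists_isAffineOpen_mem_and_subset (X := X) (U := ⊤) (x := x) trivial
  have hfin : {z : X | (z ∈ V ∧ IsGen z) ∧ ¬ z ⤳ x}.Finite :=
    (finite_isGen p hV).subset fun z hz => hz.1
  let F : Set X := ⋃ z ∈ {z : X | (z ∈ V ∧ IsGen z) ∧ ¬ z ⤳ x}, closure {z}
  have hF : IsClosed F := hfin.isClosed_biUnion fun z _ => isClosed_closure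
  refine ⟨⟨(V : Set X) ∩ Fᶜ, V.isOpen.inter hF.isOpen_compl⟩, ⟨hxV, ?_⟩, ?_⟩
  · intro hx
    simp only [F, Set.mem_iUnion] at hx
    obtain ⟨z, hz, hx⟩ := hx
    exact hz.2 (specializes_iff_mem_closure.2 hx)
  · rintro w ⟨hwV, hwF⟩ z hz hzw
    by_contra hcon
    refine hwF ?_
    simp only [F, Set.mem_iUnion]
    exact ⟨z, ⟨⟨hzw.mem_open V.isOpen hwV, hz⟩, hcon⟩, hzw.mem_closure⟩

/-- The spectrum of a stalk which is a domain has a generic point. -/
theorem exists_generic_of_isDomain_stalk {X : Scheme.{u}} (x : X) [IsDomain (X.presheaf.stalk x)] :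
    ∃ ζ : X, ζ ⤳ x ∧ ∀ z, z ⤳ x → ζ ⤳ z := by
  let b : PrimeSpectrum (X.presheaf.stalk x) := ⊥
  refine ⟨X.fromSpecStalk x b, ?_, fun z hz => ?_⟩
  · have : X.fromSpecStalk x b ∈ Set.range (X.fromSpecStalk x) := ⟨_, rfl⟩
    rw [Scheme.range_fromSpecStalk] at this
    exact this
  · have h1 : z ∈ Set.range (X.fromSpecStalk x) := by
      rw [Scheme.range_fromSpecStalk]; exact hz
    obtain ⟨P, rfl⟩ := h1
    have h2 : b ⤳ P := by
      rw [← PrimeSpectrum.le_iff_specializes]
      exact bot_le (α := PrimeSpectrum (X.presheaf.stalk x))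
    exact Specializes.map (X := ↥(Spec (X.presheaf.stalk x))) h2 (X.fromSpecStalk x).continuous

/-- If the stalk is a domain and `ζ` is a generic point specializing to `x`, all generizations of `x` are
specializations of `ζ`. -/
theorem specializes_of_isDomain_stalk {X : Scheme.{u}} (x : X) [IsDomain (X.presheaf.stalk x)]
    {ζ : X} (hζ : IsGen ζ) (h : ζ ⤳ x) (z : X) (hz : z ⤳ x) : ζ ⤳ z := by
  obtain ⟨ζ', h1, h2⟩ := exists_generic_of_isDomain_stalk x
  rw [← hζ ζ' (h2 ζ h)]
  exact h2 z hz

end K373.GenPt
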