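import Groth.Agent.StrictSS.K866.NodeDom
import Mathlib.RingTheory.Polynomial.IsIntegral
import Mathlib.RingTheory.LocalProperties.IntegrallyClosed

/-!
# The node model ring over a normal domain is normal
-/

set_option autoImplicit false

universe u

open Groth.Agent.Models.NodeRing

namespace K373.NodeNormal

variable {D : Type u} [CommRing D] {a : D}

theorem exists_form (w : W D a) :
    ∃ (w' : W D a) (p : Polynomial D), w = w' * uu D a + Polynomial.aeval (vv D a) p := by
  induction w using induction with
  | hC d => exact ⟨0, Polynomial.C d, by simp⟩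
  | hadd x y hx hy =>
    obtain ⟨x', p, hp⟩ := hx
    obtain ⟨y', q, hq⟩ := hy
    refine ⟨x' + y', p + q, ?_⟩
    rw [map_add, hp, hq]
    ring
  | hu x hx => exact ⟨x, 0, by simp⟩
  | hv x hx =>
    obtain ⟨x', p, hp⟩ := hx
    refine ⟨x' * vv D a, p * Polynomial.X, ?_⟩
    rw [map_mul, Polynomial.aeval_X, hp]
    ring

/-- Reduction modulo `u`. -/
noncomputable def red (D : Type u) [CommRing D] (a : D) : W D a →+* Polynomial (D ⧸ Ideal.span {a}) :=
  lift (Polynomial.C.comp (Ideal.Quotient.mk (Ideal.span {a}))) 0 Polynomial.X (by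
    rw [zero_mul, RingHom.comp_apply, Ideal.Quotient.eq_zero_iff_mem.2 (Ideal.mem_span_singleton_self a),
      map_zero])

theorem red_aeval (p : Polynomial D) : red D a (Polynomial.aeval (vv D a) p) =
    p.map (Ideal.Quotient.mk (Ideal.span {a})) := by
  induction p using Polynomial.induction_on' with
  | add p q hp hq => rw [map_add, map_add, hp, hq, Polynomial.map_add]
  | monomial n d =>
    rw [Polynomial.aeval_monomial, map_mul, map_pow, ← Polynomial.C_mul_X_pow_eq_monomial]
    simp [red]

theorem dvd_of_red (w : W D a) (h : red D a w = 0) : uu D a ∣ w := by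
  obtain ⟨w', p, hp⟩ := exists_form w
  have h1 : red D a (uu D a) = 0 := by simp [red]
  rw [hp, map_add, map_mul, h1, mul_zero, zero_add, red_aeval] at h
  have h2 : Polynomial.C a ∣ p := by
    rw [Polynomial.C_dvd_iff_dvd_coeff]
    intro i
    have h3 := congrArg (fun q => Polynomial.coeff q i) h
    simp only [Polynomial.coeff_map, Polynomial.coeff_zero] at h3
    rw [Ideal.Quotient.eq_zero_iff_mem, Ideal.mem_span_singleton] at h3
    exact h3
  obtain ⟨p', rfl⟩ := h2
  refine ⟨w' + vv D a * Polynomial.aeval (vv D a) p', ?_⟩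
  rw [hp, map_mul, Polynomial.aeval_C, ← uu_mul_vv]
  ring

theorem dvd_of_dvd_mul_vv (w : W D a) (h : uu D a ∣ w * vv D a) : uu D a ∣ w := by
  obtain ⟨c, hc⟩ := h
  have h1 : red D a (uu D a) = 0 := by simp [red]
  have h2 := congrArg (red D a) hc
  rw [map_mul, map_mul, h1, zero_mul] at h2
  have h3 : red D a (vv D a) = Polynomial.X := by simp [red]
  rw [h3] at h2
  refine dvd_of_red w (Polynomial.ext fun i => ?_)
  have h4 := congrArg (fun q => Polynomial.coeff q (i + 1)) h2
  simpa using h4

variable [IsDomain D] (ha : a ≠ 0)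
include ha

theorem pow_dvd_of_dvd_mul_vv (n : ℕ) : ∀ w : W D a, uu D a ^ n ∣ w * vv D a → uu D a ^ n ∣ w := by
  have := K866.NodeDom.isDomain ha
  induction n with
  | zero => intro w _; exact ⟨w, by simp⟩
  | succ n ih =>
    intro w h
    obtain ⟨c, hc⟩ := h
    obtain ⟨w', rfl⟩ := dvd_of_dvd_mul_vv w ⟨uu D a ^ n * c, by rw [hc]; ring⟩
    have h1 : uu D a ^ n ∣ w' := by
      refine ih w' ⟨c, ?_⟩
      refine mul_left_cancel₀ (uu_ne_zero ha) ?_
      linear_combination hc
    obtain ⟨d, rfl⟩ := h1
    exact ⟨d, by ring⟩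

theorem pow_dvd_of_dvd_mul_pow (n m : ℕ) (w : W D a) (h : uu D a ^ n ∣ w * vv D a ^ m) :
    uu D a ^ n ∣ w := by
  induction m with
  | zero => simpa using h
  | succ m ih =>
    refine ih (pow_dvd_of_dvd_mul_vv ha n _ ?_)
    rwa [mul_assoc, ← pow_succ]

variable [IsIntegrallyClosed D]

theorem exists_mul_pow_of_isIntegral (F : Type u) [Field F] [Algebra (W D a) F] [IsFractionRing (W D a) F] (x : F)
    (hx : IsIntegral (W D a) x) : ∃ (n : ℕ) (p : W D a), x * algebraMap (W D a) F (uu D a) ^ n =
      algebraMap (W D a) F p := by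
  have h0 := K866.NodeDom.isDomain ha
  let L := Localization.Away (Polynomial.X : Polynomial D)
  let _ : Algebra (W D a) L := (toS D a).toAlgebra
  have h1 : IsLocalization.Away (uu D a) L := isLocalization_toS D a
  have h3 : Submonoid.powers (uu D a) ≤ nonZeroDivisors (W D a) :=
    powers_le_nonZeroDivisors_of_noZeroDivisors (uu_ne_zero ha)
  have hL : IsDomain L := IsLocalization.isDomain_localization
    (powers_le_nonZeroDivisors_of_noZeroDivisors Polynomial.X_ne_zero)
  have h2 : IsIntegrallyClosed L := isIntegrallyClosed_of_isLocalization (R := Polynomial D) L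
    (Submonoid.powers (Polynomial.X : Polynomial D))
    (powers_le_nonZeroDivisors_of_noZeroDivisors Polynomial.X_ne_zero)
  let g : L →+* F := IsLocalization.map F (T := nonZeroDivisors (W D a)) (RingHom.id (W D a)) h3
  let _ : Algebra L F := g.toAlgebra
  have h4 : IsScalarTower (W D a) L F := IsScalarTower.of_algebraMap_eq'
    (by rw [RingHom.algebraMap_toAlgebra]
        refine RingHom.ext fun w => ?_
        exact (DFunLike.congr_fun (IsLocalization.map_comp (S := L) (Q := F)
          (show Submonoid.powers (uu D a) ≤ (nonZeroDivisors (W D a)).comap (RingHom.id (W D a)) from h3)) w).symm)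
  have h5 : IsFractionRing L F :=
    IsFractionRing.isFractionRing_of_isDomain_of_isLocalization (Submonoid.powers (uu D a)) L F
  obtain ⟨y, hy⟩ := (isIntegrallyClosed_iff F).1 h2 (hx.tower_top (A := L))
  obtain ⟨⟨p, ⟨_, n, rfl⟩⟩, hp⟩ := IsLocalization.surj (Submonoid.powers (uu D a)) y
  refine ⟨n, p, ?_⟩
  have h6 := congrArg (algebraMap L F) hp
  rw [map_mul, hy, ← IsScalarTower.algebraMap_apply, ← IsScalarTower.algebraMap_apply] at h6
  rw [← h6]
  simp

/-- The node ring `D[u, v]/(uv - a)`, `a ≠ 0`, over a normal domain is normal. -/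
theorem isIntegrallyClosed : IsIntegrallyClosed (W D a) := by
  have h0 := K866.NodeDom.isDomain ha
  refine (isIntegrallyClosed_iff (FractionRing (W D a))).2 fun {x} hx => ?_
  obtain ⟨n, p, hp⟩ := exists_mul_pow_of_isIntegral ha (FractionRing (W D a)) x hx
  -- the same for `v` through the swap
  let s : W D a ≃+* W D a := swap D a
  let e : FractionRing (W D a) ≃+* FractionRing (W D a) := IsFractionRing.ringEquivOfRingEquiv s
  have he : ∀ w : W D a, e (algebraMap _ _ w) = algebraMap _ _ (s w) := fun w =>
    IsFractionRing.ringEquivOfRingEquiv_algebraMap s w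
  have hx' : IsIntegral (W D a) (e x) := by
    obtain ⟨P, hP, hP0⟩ := hx
    refine ⟨P.map s.toRingHom, hP.map _, ?_⟩
    rw [Polynomial.eval₂_map]
    have h1 : (algebraMap (W D a) (FractionRing (W D a))).comp s.toRingHom =
        e.toRingHom.comp (algebraMap (W D a) (FractionRing (W D a))) :=
      RingHom.ext fun w => (he w).symm
    rw [h1]
    have h2 := Polynomial.hom_eval₂ P (algebraMap (W D a) (FractionRing (W D a))) e.toRingHom x
    exact h2.symm.trans (by rw [hP0, map_zero])
  obtain ⟨m, q, hq⟩ := exists_mul_pow_of_isIntegral ha (FractionRing (W D a)) (e x) hx'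
  have hq' : x * algebraMap (W D a) (FractionRing (W D a)) (vv D a) ^ m =
      algebraMap _ _ (s.symm q) := by
    apply e.injective
    rw [map_mul, map_pow, he, he, RingEquiv.apply_symm_apply]
    have : s (vv D a) = uu D a := swap_vv D a
    rw [this]
    exact hq
  have h1 : p * vv D a ^ m = s.symm q * uu D a ^ n := by
    apply IsFractionRing.injective (W D a) (FractionRing (W D a))
    rw [map_mul, map_mul, map_pow, map_pow, ← hp, ← hq']
    ring
  obtain ⟨c, rfl⟩ := pow_dvd_of_dvd_mul_pow ha n m p ⟨s.symm q, by rw [h1]; ring⟩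
  refine ⟨c, ?_⟩
  have h2 : algebraMap (W D a) (FractionRing (W D a)) (uu D a) ^ n ≠ 0 :=
    pow_ne_zero _ fun h => uu_ne_zero ha ((IsFractionRing.injective (W D a) (FractionRing (W D a)))
      (h.trans (map_zero _).symm))
  refine mul_right_cancel₀ h2 ?_
  rw [hp, map_mul, map_pow]
  ring

end K373.NodeNormal
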