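import Groth.Agent.SemiFact.K486.StrChart
import Groth.Agent.SemiFact.K486.SplitGen
import Groth.Agent.SSMod.K373.GenPt
import Groth.Agent.SSMod.K373.NodeNormal
import Groth.Agent.SSMod.K122.ValBase
import Groth.Agent.Ega4dA.SmoothStalk
import Groth.Agent.Sga4h.H929.F0Sch

/-!
# The two branches of `Spec R[u,v]/(uv)`

A branch of `W R a`, `a = 0`, is a quotient `W R a → R[X]`. For `g : U → Spec W R a` étale, its inverse image `U₁` in
`U` is smooth over `R`; the generic points of `U₁` are generic points of `U` and do not lie on the other branch.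
-/

set_option autoImplicit false

universe u

open CategoryTheory CategoryTheory.Limits AlgebraicGeometry TopologicalSpace

namespace K373.Branch

open Groth.Agent.Models.NodeRing K373.GenPt

/-- A branch of the node ring. -/
structure Br (R : Type u) [CommRing R] (a : R) where
  c : W R a →+* Polynomial R
  t : W R a
  s : W R a
  surj : Function.Surjective c
  hC : c.comp (algebraMap R (W R a)) = Polynomial.C
  ht0 : c t = 0
  ht : ∀ w, c w = 0 → t ∣ w
  hs : c s = Polynomial.X

section Ring

variable {R : Type u} [CommRing R] {a : R} (ha : a = 0)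

/-- The hom `u ↦ 0, v ↦ X`. -/
noncomputable def c₁ : W R a →+* Polynomial R :=
  lift Polynomial.C 0 Polynomial.X (by rw [ha]; simp)

theorem c₁_aeval (p : Polynomial R) : c₁ ha (Polynomial.aeval (vv R a) p) = p := by
  induction p using Polynomial.induction_on' with
  | add p q hp hq => rw [map_add, map_add, hp, hq]
  | monomial n d =>
    rw [Polynomial.aeval_monomial, map_mul, map_pow, ← Polynomial.C_mul_X_pow_eq_monomial]
    simp [c₁]

theorem c₁_surj : Function.Surjective (c₁ ha) := fun p => ⟨_, c₁_aeval ha p⟩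

theorem dvd_of_c₁ (w : W R a) (h : c₁ ha w = 0) : uu R a ∣ w := by
  obtain ⟨w', p, hp⟩ := K373.NodeNormal.exists_form w
  have h1 : c₁ ha (uu R a) = 0 := by simp [c₁]
  rw [hp, map_add, map_mul, h1, mul_zero, zero_add, c₁_aeval] at h
  refine ⟨w', ?_⟩
  rw [hp, h, map_zero, add_zero, mul_comm]

/-- The branch `u = 0`. -/
noncomputable def br₁ : Br R a where
  c := c₁ ha
  t := uu R a
  s := vv R a
  surj := c₁_surj ha
  hC := RingHom.ext fun r => by simp [c₁]
  ht0 := by simp [c₁]
  ht := dvd_of_c₁ ha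
  hs := by simp [c₁]

/-- The branch `v = 0`. -/
noncomputable def br₂ : Br R a where
  c := (c₁ ha).comp (swap R a : W R a →+* W R a)
  t := vv R a
  s := uu R a
  surj := (c₁_surj ha).comp (swap R a).surjective
  hC := RingHom.ext fun r => by simp [c₁]
  ht0 := by simp [c₁]
  ht := fun w hw => by
    obtain ⟨w', hw'⟩ := dvd_of_c₁ ha _ hw
    refine ⟨(swap R a).symm w', (swap R a).injective ?_⟩
    rw [map_mul, swap_vv, RingEquiv.apply_symm_apply]
    exact hw'
  hs := by simp [c₁]

end Ring

section Geo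

variable {R : Type u} [CommRing R] {a : R} (b : Br R a) {U : Scheme.{u}}
  (g : U ⟶ Spec (CommRingCat.of (W R a)))

theorem mem_range_c' (P : PrimeSpectrum (W R a)) :
    P ∈ Set.range (PrimeSpectrum.comap b.c) ↔ b.t ∈ P.asIdeal := by
  rw [range_comap_of_surjective _ b.c b.surj, PrimeSpectrum.mem_zeroLocus]
  constructor
  · intro h
    exact h b.ht0
  · rintro h w hw
    obtain ⟨w', rfl⟩ := b.ht w hw
    exact Ideal.mul_mem_right _ _ h

theorem mem_range_c (P : Spec (CommRingCat.of (W R a))) :
    P ∈ Set.range (Spec.map (CommRingCat.ofHom b.c)) ↔ b.t ∈ P.asIdeal := mem_range_c' b P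

theorem mem_range_iff (w : U) :
    w ∈ Set.range (pullback.fst g (Spec.map (CommRingCat.ofHom b.c))) ↔ b.t ∈ (g w).asIdeal := by
  rw [Scheme.Pullback.range_fst, Set.mem_preimage]
  exact mem_range_c b (g w)

theorem isClosedImmersion_c : IsClosedImmersion (Spec.map (CommRingCat.ofHom b.c)) :=
  IsClosedImmersion.spec_of_surjective _ b.surj

theorem isClosedImmersion_fst : IsClosedImmersion (pullback.fst g (Spec.map (CommRingCat.ofHom b.c))) :=
  MorphismProperty.pullback_fst _ _ (isClosedImmersion_c b)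

theorem fst_comp : pullback.fst g (Spec.map (CommRingCat.ofHom b.c)) ≫ g ≫
    Spec.map (CommRingCat.ofHom (algebraMap R (W R a))) =
      pullback.snd g (Spec.map (CommRingCat.ofHom b.c)) ≫
        Spec.map (CommRingCat.ofHom (Polynomial.C : R →+* Polynomial R)) := by
  rw [← Category.assoc, pullback.condition, Category.assoc, ← Spec.map_comp, ← CommRingCat.ofHom_comp, b.hC]

theorem smooth_fst [Etale g] : Smooth (pullback.fst g (Spec.map (CommRingCat.ofHom b.c)) ≫ g ≫
    Spec.map (CommRingCat.ofHom (algebraMap R (W R a)))) := by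
  rw [fst_comp]
  have := Groth.Agent.Sga4h.H929.F0Sch.smooth_C (R := R)
  infer_instance

theorem s_notMem [IsDomain R] [Etale g] (z : ↥(pullback g (Spec.map (CommRingCat.ofHom b.c)))) (hz : IsGen z) :
    b.s ∉ (g (pullback.fst g (Spec.map (CommRingCat.ofHom b.c)) z)).asIdeal := by
  have h1 : IsGen (pullback.snd g (Spec.map (CommRingCat.ofHom b.c)) z) :=
    hz.map (Flat.generalizingMap _)
  let β : PrimeSpectrum (Polynomial R) := ⊥
  have h2 : pullback.snd g (Spec.map (CommRingCat.ofHom b.c)) z = β := by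
    symm
    refine h1 β ?_
    have : β ⤳
        (pullback.snd g (Spec.map (CommRingCat.ofHom b.c)) z : PrimeSpectrum (Polynomial R)) := by
      rw [← PrimeSpectrum.le_iff_specializes]
      exact bot_le (α := PrimeSpectrum (Polynomial R))
    exact this
  have h3 : g (pullback.fst g (Spec.map (CommRingCat.ofHom b.c)) z) =
      Spec.map (CommRingCat.ofHom b.c) (pullback.snd g (Spec.map (CommRingCat.ofHom b.c)) z) := by
    rw [← Scheme.Hom.comp_apply, pullback.condition, Scheme.Hom.comp_apply]
  rw [h3, h2]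
  change ¬ (b.c b.s ∈ β.asIdeal)
  rw [b.hs]
  intro h
  exact Polynomial.X_ne_zero (Ideal.mem_bot.1 h)

theorem isGen_fst [IsDomain R] [Etale g] (b' : Br R a) (h' : b'.t = b.s) (h0 : b.t * b'.t = 0)
    (z : ↥(pullback g (Spec.map (CommRingCat.ofHom b.c)))) (hz : IsGen z) :
    IsGen (pullback.fst g (Spec.map (CommRingCat.ofHom b.c)) z) := by
  have hc := isClosedImmersion_fst b g
  have hc' := isClosedImmersion_fst b' g
  intro w hw
  by_cases h1 : b.t ∈ (g w).asIdeal
  · obtain ⟨w', rfl⟩ := (mem_range_iff b g w).2 h1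
    have h2 : w' ⤳ z :=
      (pullback.fst g (Spec.map (CommRingCat.ofHom b.c))).isClosedEmbedding.isInducing.specializes_iff.1 hw
    rw [hz w' h2]
  · exfalso
    have h2 : b'.t ∈ (g w).asIdeal := by
      have h3 : b.t * b'.t ∈ (g w).asIdeal := by rw [h0]; exact Ideal.zero_mem _
      exact ((g w).isPrime.mem_or_mem h3).resolve_left h1
    have h3 := (mem_range_iff b' g w).2 h2
    have h4 := hw.mem_closed (pullback.fst g (Spec.map (CommRingCat.ofHom b'.c))).isClosedEmbedding.isClosed_range h3
    have h5 := (mem_range_iff b' g _).1 h4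
    rw [h'] at h5
    exact s_notMem b g z hz h5

/-- The generic point of the branch through a point. -/
theorem exists_zeta [IsDomain R] (hN : Pi1.IsNormalScheme (Spec (CommRingCat.of R))) [Etale g]
    (b' : Br R a) (h' : b'.t = b.s) (h0 : b.t * b'.t = 0) (y : U) (hy : b.t ∈ (g y).asIdeal) :
    ∃ ζ : U, b.t ∈ (g ζ).asIdeal ∧ b'.t ∉ (g ζ).asIdeal ∧ IsGen ζ ∧ ζ ⤳ y ∧
      ∀ z : U, b.t ∈ (g z).asIdeal → z ⤳ y → ζ ⤳ z := by
  have hc := isClosedImmersion_fst b g
  obtain ⟨y', rfl⟩ := (mem_range_iff b g y).2 hy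
  have hs := smooth_fst b g
  have hd := (Groth.Agent.Ega4dA.SmoothStalk.stalk_of_smooth hN
    (pullback.fst g (Spec.map (CommRingCat.ofHom b.c)) ≫ g ≫
      Spec.map (CommRingCat.ofHom (algebraMap R (W R a)))) y').1
  obtain ⟨z, hz1, hz2⟩ := exists_generic_of_isDomain_stalk y'
  have hz : IsGen z := fun w hw => (hw.antisymm (hz2 w (hw.trans hz1))).eq
  refine ⟨pullback.fst g (Spec.map (CommRingCat.ofHom b.c)) z, (mem_range_iff b g _).1 ⟨z, rfl⟩, ?_,
    isGen_fst b g b' h' h0 z hz, hz1.map (pullback.fst g (Spec.map (CommRingCat.ofHom b.c))).continuous, ?_⟩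
  · rw [h']
    exact s_notMem b g z hz
  · intro w hw hwy
    obtain ⟨w', rfl⟩ := (mem_range_iff b g w).2 hw
    have h2 : w' ⤳ y' :=
      (pullback.fst g (Spec.map (CommRingCat.ofHom b.c))).isClosedEmbedding.isInducing.specializes_iff.1 hwy
    exact (hz2 w' h2).map (pullback.fst g (Spec.map (CommRingCat.ofHom b.c))).continuous

/-- Points of a branch are specializations of generic points of `U` on the branch. -/
theorem exists_isGen_branch [IsDomain R] [Etale g]
    (b' : Br R a) (h' : b'.t = b.s) (h0 : b.t * b'.t = 0) (w : U) (hw : b.t ∈ (g w).asIdeal) :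
    ∃ z : U, z ⤳ w ∧ b.t ∈ (g z).asIdeal ∧ IsGen z := by
  have hc := isClosedImmersion_fst b g
  obtain ⟨w', rfl⟩ := (mem_range_iff b g w).2 hw
  obtain ⟨z, hz1, hz2⟩ := exists_isGen w'
  exact ⟨_, hz1.map (pullback.fst g (Spec.map (CommRingCat.ofHom b.c))).continuous,
    (mem_range_iff b g _).1 ⟨z, rfl⟩, isGen_fst b g b' h' h0 z hz2⟩

end Geo

end K373.Branch
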