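import Mathlib.AlgebraicGeometry.Morphisms.ClosedImmersion
import Mathlib.AlgebraicGeometry.Morphisms.FiniteType
import Mathlib.RingTheory.Valuation.ValuationRing
import Mathlib.RingTheory.Jacobson.Ring
import Mathlib.RingTheory.Localization.BaseChange
import Mathlib.FieldTheory.IsAlgClosed.Basic

/-!
# Sections of affine schemes over a valuation ring
-/

set_option autoImplicit false

universe u

open CategoryTheory CategoryTheory.Limits AlgebraicGeometry TopologicalSpace
open scoped TensorProduct

namespace K373.SectV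

attribute [local instance] Algebra.TensorProduct.rightAlgebra

theorem surjective_algebraMap (R : Type u) [CommRing R] [IsDomain R] [ValuationRing R]
    [IsAlgClosed (FractionRing R)] (B : Type u) [CommRing B] [IsDomain B] [Algebra R B]
    [Algebra.FiniteType R B] (hinj : Function.Injective (algebraMap R B))
    (h1 : ∀ P : Ideal B, P.IsPrime → P.comap (algebraMap R B) = ⊥ → P = ⊥)
    (Q : Ideal B) [Q.IsPrime] (hQ : Q.comap (algebraMap R B) = IsLocalRing.maximalIdeal R) :
    Function.Surjective (algebraMap R B) := by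
  let K := FractionRing R
  let L := K ⊗[R] B
  let M := Algebra.algebraMapSubmonoid B (nonZeroDivisors R)
  have hloc : IsLocalization M L :=
    (inferInstance : IsLocalization (Algebra.algebraMapSubmonoid B (nonZeroDivisors R)) (K ⊗[R] B))
  have hM : M ≤ nonZeroDivisors B := by
    rintro _ ⟨r, hr, rfl⟩
    refine mem_nonZeroDivisors_of_ne_zero fun h => nonZeroDivisors.ne_zero hr ?_
    exact hinj (h.trans (map_zero _).symm)
  have hL : IsDomain L := IsLocalization.isDomain_of_le_nonZeroDivisors L hM
  have hinjL : Function.Injective (algebraMap B L) := IsLocalization.injective L hM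
  have hfield : IsField L := by
    by_contra hcon
    obtain ⟨p, hp0, hp⟩ := Ring.not_isField_iff_exists_prime.1 hcon
    have h2 := (IsLocalization.isPrime_iff_isPrime_disjoint M L p).1 hp
    have h3 : (p.comap (algebraMap B L)) = ⊥ := by
      refine h1 _ h2.1 ?_
      rw [eq_bot_iff]
      intro r hr
      by_contra hr0
      have h4 : algebraMap R B r ∈ (M : Set B) := ⟨r, mem_nonZeroDivisors_of_ne_zero hr0, rfl⟩
      exact Set.disjoint_left.1 h2.2 h4 hr
    apply hp0
    have h4 := IsLocalization.map_under M L p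
    rw [← h4]
    change Ideal.map (algebraMap B L) (p.comap (algebraMap B L)) = ⊥
    rw [h3, Ideal.map_bot]
  let _ : Field L := hfield.toField
  have hft : Algebra.FiniteType K L := inferInstance
  have hfin : Module.Finite K L := finite_of_finite_type_of_isJacobsonRing K L
  have hbij := IsAlgClosed.algebraMap_bijective_of_isIntegral (k := K) (K := L)
  intro b
  obtain ⟨k, hk⟩ := hbij.2 (algebraMap B L b)
  obtain ⟨x, y, hy, rfl⟩ := IsFractionRing.div_surjective (A := R) k
  have hy0 : y ≠ 0 := nonZeroDivisors.ne_zero hy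
  have hKL : ∀ r : R, algebraMap K L (algebraMap R K r) = algebraMap B L (algebraMap R B r) := fun r => by
    rw [← IsScalarTower.algebraMap_apply R K L, ← IsScalarTower.algebraMap_apply R B L]
  have hyK : algebraMap R K y ≠ 0 := fun h => hy0 ((IsFractionRing.injective R K) (h.trans (map_zero _).symm))
  have hxy : b * algebraMap R B y = algebraMap R B x := by
    apply hinjL
    rw [map_mul, ← hk, ← hKL, ← hKL, ← map_mul, div_mul_cancel₀ _ hyK]
  rcases ValuationRing.dvd_total y x with ⟨z, rfl⟩ | ⟨z, rfl⟩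
  · refine ⟨z, ?_⟩
    have h2 : algebraMap R B y ≠ 0 := fun h => hy0 (hinj (h.trans (map_zero _).symm))
    refine mul_right_cancel₀ h2 ?_
    rw [hxy, map_mul, mul_comm]
  · by_cases hx : x = 0
    · refine absurd ?_ hy0
      rw [hx, zero_mul]
    · have h2 : algebraMap R B x ≠ 0 := fun h => hx (hinj (h.trans (map_zero _).symm))
      have h3 : b * algebraMap R B z = 1 := by
        refine mul_left_cancel₀ h2 ?_
        rw [mul_one]
        nth_rewrite 2 [← hxy]
        rw [map_mul]
        ring
      have h4 : IsUnit z := by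
        by_contra hcon
        have h5 : z ∈ IsLocalRing.maximalIdeal R := hcon
        rw [← hQ] at h5
        have h6 : (1 : B) ∈ Q := by
          rw [← h3]
          exact Ideal.mul_mem_left _ _ h5
        exact (‹Q.IsPrime›.ne_top) ((Ideal.eq_top_iff_one _).2 h6)
      obtain ⟨w, hw⟩ := h4.exists_right_inv
      refine ⟨w, ?_⟩
      have h5 : algebraMap R B z * algebraMap R B w = 1 := by rw [← map_mul, hw, map_one]
      calc algebraMap R B w = (b * algebraMap R B z) * algebraMap R B w := by rw [h3, one_mul]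
        _ = b * (algebraMap R B z * algebraMap R B w) := by ring
        _ = b := by rw [h5, mul_one]

theorem exists_retraction (R : Type u) [CommRing R] [IsDomain R] [ValuationRing R]
    [IsAlgClosed (FractionRing R)] (B : Type u) [CommRing B] (ψ : R →+* B) (hψ : ψ.FiniteType)
    (v c : Ideal B) [v.IsPrime] [c.IsPrime] (hv : v.comap ψ = ⊥)
    (hc : c.comap ψ = IsLocalRing.maximalIdeal R) (hvc : v ≤ c)
    (hcl : ∀ P : Ideal B, P.IsPrime → v ≤ P → P.comap ψ = ⊥ → P = v) :
    ∃ τ : B →+* R, (∀ r, τ (ψ r) = r) ∧ RingHom.ker τ = v ∧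
      (IsLocalRing.maximalIdeal R).comap τ = c := by
  let _ : Algebra R (B ⧸ v) := ((Ideal.Quotient.mk v).comp ψ).toAlgebra
  have halg : ∀ r, algebraMap R (B ⧸ v) r = Ideal.Quotient.mk v (ψ r) := fun r => rfl
  have hft : Algebra.FiniteType R (B ⧸ v) :=
    RingHom.FiniteType.comp_surjective hψ Ideal.Quotient.mk_surjective
  have hinj : Function.Injective (algebraMap R (B ⧸ v)) := by
    rw [injective_iff_map_eq_zero]
    intro r hr
    rw [halg, Ideal.Quotient.eq_zero_iff_mem] at hr
    have : r ∈ v.comap ψ := hr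
    rw [hv] at this
    exact this
  have h1 : ∀ P : Ideal (B ⧸ v), P.IsPrime → P.comap (algebraMap R (B ⧸ v)) = ⊥ → P = ⊥ := by
    intro P hP h
    have h2 : P.comap (Ideal.Quotient.mk v) = v := by
      refine hcl _ (Ideal.comap_isPrime _ _) ?_ h
      intro x hx
      rw [Ideal.mem_comap, Ideal.Quotient.eq_zero_iff_mem.2 hx]
      exact P.zero_mem
    rw [← Ideal.map_comap_of_surjective _ Ideal.Quotient.mk_surjective P, h2]
    exact Ideal.map_quotient_self v
  have hQc : (c.map (Ideal.Quotient.mk v)).comap (Ideal.Quotient.mk v) = c := by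
    rw [Ideal.comap_map_of_surjective _ Ideal.Quotient.mk_surjective]
    have : Ideal.comap (Ideal.Quotient.mk v) ⊥ = v := Ideal.mk_ker
    rw [this]
    exact sup_eq_left.2 hvc
  have hQ : (c.map (Ideal.Quotient.mk v)).IsPrime :=
    Ideal.map_isPrime_of_surjective Ideal.Quotient.mk_surjective (by rw [Ideal.mk_ker]; exact hvc)
  have hQ' : (c.map (Ideal.Quotient.mk v)).comap (algebraMap R (B ⧸ v)) = IsLocalRing.maximalIdeal R := by
    rw [← hc]
    conv_rhs => rw [← hQc]
    rfl
  have hsurj := surjective_algebraMap R (B ⧸ v) hinj h1 _ hQ'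
  let e : R ≃+* (B ⧸ v) := RingEquiv.ofBijective (algebraMap R (B ⧸ v)) ⟨hinj, hsurj⟩
  let τ : B →+* R := (e.symm : (B ⧸ v) →+* R).comp (Ideal.Quotient.mk v)
  have he : ∀ b : B, Ideal.Quotient.mk v (ψ (τ b)) = Ideal.Quotient.mk v b := fun b =>
    e.apply_symm_apply (Ideal.Quotient.mk v b)
  refine ⟨τ, fun r => e.symm_apply_apply r, ?_, ?_⟩
  · ext b
    rw [RingHom.mem_ker, ← Ideal.Quotient.eq_zero_iff_mem]
    exact e.symm.map_eq_zero_iff
  · ext b
    rw [Ideal.mem_comap, ← hc, Ideal.mem_comap]
    have h2 : ψ (τ b) - b ∈ c := hvc (by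
      rw [← Ideal.Quotient.eq_zero_iff_mem, map_sub, he, sub_self])
    constructor
    · intro h
      have := c.sub_mem h h2
      rwa [sub_sub_cancel] at this
    · intro h
      have := c.add_mem h2 h
      rwa [sub_add_cancel] at this

theorem exists_section_spec (R : Type u) [CommRing R] [IsDomain R] [ValuationRing R]
    [IsAlgClosed (FractionRing R)] (B : CommRingCat.{u}) (φ : Spec B ⟶ Spec (CommRingCat.of R))
    [LocallyOfFiniteType φ] (v c : Spec B) (hv : (φ v).asIdeal = ⊥)
    (hc : φ c = IsLocalRing.closedPoint R) (hvc : v ⤳ c)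
    (hcl : ∀ v' : Spec B, v ⤳ v' → φ v' = φ v → v' = v) :
    ∃ s : Spec (CommRingCat.of R) ⟶ Spec B, s ≫ φ = 𝟙 _ ∧ s (IsLocalRing.closedPoint R) = c ∧
      IsClosedImmersion s ∧ Set.range s = closure {v} := by
  let ψ : CommRingCat.of R ⟶ B := Spec.preimage φ
  have hψ : Spec.map ψ = φ := Spec.map_preimage φ
  have hft : ψ.hom.FiniteType := by
    have : LocallyOfFiniteType (Spec.map ψ) := by rw [hψ]; infer_instance
    exact (HasRingHomProperty.Spec_iff (P := @LocallyOfFiniteType)).1 this
  have hap : ∀ P : Spec B, (φ P).asIdeal = P.asIdeal.comap ψ.hom := fun P => by rw [← hψ]; rfl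
  obtain ⟨τ, h1, h2, h3⟩ := exists_retraction R B ψ.hom hft v.asIdeal c.asIdeal
    (by rw [← hap, hv]) (by rw [← hap, hc]; rfl)
    (by
      have h : v ⤳ c := hvc
      exact (PrimeSpectrum.le_iff_specializes v c).2 h) (fun P hP hvP hP0 => by
      have h4 : v ⤳ (⟨P, hP⟩ : PrimeSpectrum B) := (PrimeSpectrum.le_iff_specializes v ⟨P, hP⟩).1 hvP
      have h5 := hcl (⟨P, hP⟩ : PrimeSpectrum B) h4 (PrimeSpectrum.ext (by
        rw [hv]
        exact (hap (⟨P, hP⟩ : PrimeSpectrum B)).trans hP0))
      exact congrArg PrimeSpectrum.asIdeal h5)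
  have hsurj : Function.Surjective τ := fun r => ⟨_, h1 r⟩
  refine ⟨Spec.map (CommRingCat.ofHom τ), ?_, ?_, IsClosedImmersion.spec_of_surjective _ hsurj, ?_⟩
  · rw [← hψ, ← Spec.map_comp, ← Spec.map_id]
    congr 1
    ext r
    exact h1 r
  · exact PrimeSpectrum.ext h3
  · have h4 : Set.range (PrimeSpectrum.comap τ) = PrimeSpectrum.zeroLocus (RingHom.ker τ : Set B) :=
      range_comap_of_surjective _ τ hsurj
    rw [h2] at h4
    have h5 : closure {(v : PrimeSpectrum B)} = PrimeSpectrum.zeroLocus (v.asIdeal : Set B) :=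
      PrimeSpectrum.closure_singleton v
    exact h4.trans h5.symm

/-- A point `v` of an affine scheme of finite type over a valuation ring, closed in the generic fibre and specializing
to a point `c` of the closed fibre, is the generic point of a section through `c`. -/
theorem exists_section {R : Type u} [CommRing R] [IsDomain R] [ValuationRing R]
    [IsAlgClosed (FractionRing R)] {V : Scheme.{u}} [IsAffine V] (φ : V ⟶ Spec (CommRingCat.of R))
    [LocallyOfFiniteType φ] (v c : V) (hv : (φ v).asIdeal = ⊥)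
    (hc : φ c = IsLocalRing.closedPoint R) (hvc : v ⤳ c)
    (hcl : ∀ v' : V, v ⤳ v' → φ v' = φ v → v' = v) :
    ∃ s : Spec (CommRingCat.of R) ⟶ V, s ≫ φ = 𝟙 _ ∧ s (IsLocalRing.closedPoint R) = c ∧
      IsClosedImmersion s ∧ Set.range s = closure {v} := by
  let i := V.isoSpec
  have hi : ∀ x, i.inv (i.hom x) = x := fun x => by
    rw [← Scheme.Hom.comp_apply, Iso.hom_inv_id]; rfl
  have hi' : ∀ x, i.hom (i.inv x) = x := fun x => by
    rw [← Scheme.Hom.comp_apply, Iso.inv_hom_id]; rfl
  obtain ⟨s, h1, h2, h3, h4⟩ := exists_section_spec R Γ(V, ⊤) (i.inv ≫ φ) (i.hom v) (i.hom c)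
    (by rw [Scheme.Hom.comp_apply, hi]; exact hv) (by rw [Scheme.Hom.comp_apply, hi]; exact hc)
    (hvc.map i.hom.continuous) (fun v' h h' => by
      have h5 : v ⤳ i.inv v' := by
        have := h.map i.inv.continuous
        rwa [hi] at this
      have h6 := hcl (i.inv v') h5 (by
        rw [Scheme.Hom.comp_apply, Scheme.Hom.comp_apply, hi] at h'
        exact h')
      rw [← h6, hi'])
  refine ⟨s ≫ i.inv, by rw [Category.assoc]; exact h1, ?_, inferInstance, ?_⟩
  · rw [Scheme.Hom.comp_apply, h2, hi]
  · ext x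
    rw [← specializes_iff_mem_closure]
    constructor
    · rintro ⟨q, rfl⟩
      have h5 : s q ∈ closure {i.hom v} := by rw [← h4]; exact ⟨q, rfl⟩
      have h6 := (specializes_iff_mem_closure.2 h5).map i.inv.continuous
      rw [hi] at h6
      exact h6
    · intro hx
      have h5 : i.hom x ∈ Set.range s := by
        rw [h4]
        exact specializes_iff_mem_closure.1 (hx.map i.hom.continuous)
      obtain ⟨q, hq⟩ := h5
      refine ⟨q, ?_⟩
      rw [Scheme.Hom.comp_apply, hq, hi]

end K373.SectV
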