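import Groth.Agent.SSMod.K373.GenFib
import Groth.Agent.SSMod.K373.GenPt
import Groth.Agent.SSMod.K373.SectV
import Groth.Agent.SSMod.K342.ExcDich
import Groth.Agent.StrictSS.K373.Closure
import Groth.Agent.S0429
import Groth.Agent.Ega1.ReducedSub

/-!
# The closure in the total space of a rational component of the generic fibre
-/

set_option autoImplicit false

universe u

open CategoryTheory CategoryTheory.Limits AlgebraicGeometry TopologicalSpace

namespace K373.Clos

open K342.P1Locus K342.P1Red K342.Radic K373.GenPt Groth.Agent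

theorem flat_of_field {R : Type u} [CommRing R] [IsDomain R] [ValuationRing R] {Ω : Type u} [Field Ω]
    (g : Spec (CommRingCat.of Ω) ⟶ Spec (CommRingCat.of R))
    (hg : g (IsLocalRing.closedPoint Ω) = genericPoint (Spec (CommRingCat.of R))) : Flat g := by
  refine K373.Closure.flat_of_dominant (𝟙 (Spec (CommRingCat.of Ω))) g fun w => ?_
  rw [Category.id_comp, ← hg]
  congr 1
  exact Subsingleton.elim (α := PrimeSpectrum Ω) _ _

/-- Integral schemes dominating a valuation ring are flat. -/
theorem flat_of_integral {R : Type u} [CommRing R] [IsDomain R] [ValuationRing R] {𝒯 : Scheme.{u}} [IsIntegral 𝒯]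
    (π : 𝒯 ⟶ Spec (CommRingCat.of R)) (h : π (genericPoint 𝒯) = genericPoint (Spec (CommRingCat.of R))) :
    Flat π := by
  let η := genericPoint (Spec (CommRingCat.of R))
  have hqc : QuasiCompact (π.fiberι η) := MorphismProperty.pullback_fst _ _ inferInstance
  have hd : IsDominant (π.fiberι η) := by
    constructor
    have h1 : genericPoint 𝒯 ∈ Set.range (π.fiberι η) := by
      rw [Scheme.Hom.range_fiberι]
      exact h
    intro x
    exact closure_mono (Set.singleton_subset_iff.2 h1)
      (specializes_iff_mem_closure.1 (genericPoint_specializes x))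
  have hsd : IsSchemeTheoreticallyDominant (π.fiberι η) := .of_isDominant _
  refine K373.Closure.flat_of_dominant (π.fiberι η) π fun w => ?_
  have h1 : π.fiberι η w ∈ Set.range (π.fiberι η) := ⟨w, rfl⟩
  rw [Scheme.Hom.range_fiberι] at h1
  exact h1

section

variable {R : Type u} [CommRing R] [IsDomain R] [ValuationRing R] [IsAlgClosed (FractionRing R)]
  {X : Scheme.{u}} (p : X ⟶ Spec (CommRingCat.of R)) [LocallyOfFiniteType p]
  {Ω : Type u} [Field Ω] [IsAlgClosed Ω] (g : Spec (CommRingCat.of Ω) ⟶ Spec (CommRingCat.of R))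
  (hg : g (IsLocalRing.closedPoint Ω) = genericPoint (Spec (CommRingCat.of R)))
  {P : Scheme.{u}} (a : P ⟶ X) (b : P ⟶ Spec (CommRingCat.of Ω)) (hP : IsPullback a b p g)
  (Z : Set P) (hZ : Z ∈ irreducibleComponents P) (hZP : IsP1On Ω b Z)

include hg hP hZ hZP

theorem exists_closure : ∃ (ζ : X) (𝒯 : Scheme.{u}) (j : 𝒯 ⟶ X) (_ : IsClosedImmersion j) (_ : IsIntegral 𝒯),
    IsGen ζ ∧ Set.range j = closure {ζ} ∧ (∃ z ∈ Z, a z = ζ) ∧
    Z = a ⁻¹' closure {ζ} ∧ (j ≫ p) (genericPoint 𝒯) = genericPoint (Spec (CommRingCat.of R)) ∧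
    Flat (j ≫ p) ∧ LocallyOfFinitePresentation (j ≫ p) ∧ IsP1 Ω (pullback.snd (j ≫ p) g) := by
  have hgf := flat_of_field g hg
  have haf : Flat a := MorphismProperty.of_isPullback hP.flip hgf
  have hZc : IsClosed Z := isClosed_of_mem_irreducibleComponents Z hZ
  obtain ⟨z, hz⟩ := QuasiSober.sober hZ.1 hZc
  have hzZ : z ∈ Z := by rw [← hz.def]; exact subset_closure rfl
  have hzg : IsGen z := isGen_of_mem (by rw [hz.def]; exact hZ)
  have hζ : IsGen (a z) := hzg.map (Flat.generalizingMap a)
  have hpζ : p (a z) = genericPoint (Spec (CommRingCat.of R)) := by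
    change (a ≫ p) z = _
    rw [hP.w, ← hg]
    change g (b z) = _
    congr 1
    exact Subsingleton.elim (α := PrimeSpectrum Ω) _ _
  let W : Closeds X := ⟨closure {a z}, isClosed_closure⟩
  let j := redι W
  have hj : Set.range j = closure {a z} := range_redι W
  have hirr : IrreducibleSpace ↥(Scheme.IdealSheafData.vanishingIdeal W).subscheme :=
    irreducibleSpace_of_range j.isClosedEmbedding.isEmbedding
      (by rw [hj]; exact isIrreducible_singleton.closure)
  have hred := Groth.Agent.Ega1.ReducedSub.isReduced_subscheme_vanishingIdeal W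
  have hint : IsIntegral (Scheme.IdealSheafData.vanishingIdeal W).subscheme :=
    isIntegral_of_irreducibleSpace_of_isReduced _
  have hgen : j (genericPoint _) = a z := by
    have h1 := (genericPoint_spec ↥(Scheme.IdealSheafData.vanishingIdeal W).subscheme).image j.continuous
    rw [Set.image_univ, hj, closure_closure] at h1
    exact h1.eq isGenericPoint_closure
  have hπ : (j ≫ p) (genericPoint _) = genericPoint (Spec (CommRingCat.of R)) := by
    rw [Scheme.Hom.comp_apply, hgen, hpζ]
  have hfl : Flat (j ≫ p) := flat_of_integral (j ≫ p) hπ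
  have hlfp : LocallyOfFinitePresentation (j ≫ p) := Groth.Agent.S0429.result (j ≫ p)
  have hdom : DenseRange (j ≫ p) := by
    intro x
    have h1 : genericPoint (Spec (CommRingCat.of R)) ∈ Set.range (j ≫ p) := ⟨_, hπ⟩
    exact closure_mono (Set.singleton_subset_iff.2 h1)
      (specializes_iff_mem_closure.1 (genericPoint_specializes x))
  have hI := K373.GenFib.isIntegral_pullback (j ≫ p) hdom Ω g hg
  obtain ⟨c, hc, hcs, hcr⟩ := exists_closed_comp p W hP
  have hZeq : Z = a ⁻¹' closure {a z} := by
    refine subset_antisymm ?_ ?_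
    · intro w hw
      have h1 : z ⤳ w := by
        rw [specializes_iff_mem_closure, hz.def]; exact hw
      exact specializes_iff_mem_closure.1 (h1.map a.continuous)
    · have h1 : IsIrreducible (a ⁻¹' closure {a z}) := by
        have h2 : IsIrreducible (Set.range c) := by
          rw [← Set.image_univ]
          exact (IrreducibleSpace.isIrreducible_univ _).image c c.continuous.continuousOn
        rw [hcr] at h2
        exact h2
      refine hZ.2 h1 ?_
      intro w hw
      have h1 : z ⤳ w := by
        rw [specializes_iff_mem_closure, hz.def]; exact hw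
      exact specializes_iff_mem_closure.1 (h1.map a.continuous)
  refine ⟨a z, _, j, inferInstance, hint, hζ, hj, ⟨z, hzZ, rfl⟩, hZeq, hπ, hfl, hlfp, ?_⟩
  rw [← hcs]
  refine (isP1On_iff b c ?_).1 hZP
  rw [hcr]
  exact hZeq.symm

end

end K373.Clos
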