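import Groth.Agent.SSMod.K373.Local
import Groth.Agent.SSMod.K342.P1Red
import Groth.Agent.SSMod.K342.EtRed
import Groth.Agent.SSMod.K62.Frob
import Groth.Agent.SSMod.K851.Comp

/-!
# The closure of a generic point in a nodal family has reduced closed fibre
-/

set_option autoImplicit false

universe u

open CategoryTheory CategoryTheory.Limits AlgebraicGeometry TopologicalSpace

namespace K373.Red

open Groth.Agent.Models.NodeRing K373.GenPt K373.Branch K373.Node

theorem isReduced_of_smooth {Y S : Scheme.{u}} (hS : Pi1.IsNormalScheme S) (f : Y ⟶ S) [Smooth f] :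
    IsReduced Y := by
  have : ∀ y : Y, _root_.IsReduced (Y.presheaf.stalk y) := fun y => by
    have := (Groth.Agent.Ega4dA.SmoothStalk.stalk_of_smooth hS f y).1
    infer_instance
  exact isReduced_of_isReduced_stalk Y

section

variable {R : Type u} [CommRing R] [IsDomain R] [ValuationRing R]
  {X 𝒯 : Scheme.{u}} (p : X ⟶ Spec (CommRingCat.of R)) (j : 𝒯 ⟶ X) [IsClosedImmersion j] [IsReduced 𝒯]
  {ζ : X} (hj : Set.range j = closure {ζ})

include hj

theorem mem_smoothLocus [LocallyOfFinitePresentation (j ≫ p)] (t : 𝒯) (h : BrNbhd p ζ (j t)) :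
    t ∈ (j ≫ p).smoothLocus := by
  obtain ⟨U, U₁, e, he, i, hi, hs, y, hy, U', hyU', heq⟩ := h
  have hmem : ∀ w ∈ U', w ∈ Set.range i ↔ e w ∈ Set.range j := by
    intro w hw
    rw [heq w hw, hj, specializes_iff_mem_closure]
  have hU₁ : IsReduced U₁ := isReduced_of_smooth (K122.ValBase.isNormalScheme R) (i ≫ e ≫ p)
  let c := pullback.snd j (U'.ι ≫ e)
  let a := pullback.fst j (U'.ι ≫ e)
  have hA : IsReduced (pullback j (U'.ι ≫ e)) := K342.EtRed.isReduced_of_etale a
  have hrc : Set.range c = Set.range (i ∣_ U') := by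
    ext w
    rw [Scheme.Pullback.range_snd, Set.mem_preimage]
    change e w.1 ∈ Set.range j ↔ _
    rw [← hmem w.1 w.2]
    constructor
    · rintro ⟨b, hb⟩
      have hbU : b ∈ i ⁻¹ᵁ U' := by
        change i b ∈ U'
        rw [hb]; exact w.2
      refine ⟨⟨b, hbU⟩, ?_⟩
      apply U'.ι.isOpenEmbedding.injective
      rw [← Scheme.Hom.comp_apply, morphismRestrict_ι]
      exact hb
    · rintro ⟨b, hb⟩
      refine ⟨b.1, ?_⟩
      have h1 := congrArg U'.ι hb
      rw [← Scheme.Hom.comp_apply, morphismRestrict_ι] at h1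
      exact h1
  obtain ⟨u, hu, huc⟩ := K342.P1Red.exists_iso_of_range c (i ∣_ U') hrc
  have hsm : Smooth (a ≫ j ≫ p) := by
    have h1 : a ≫ j ≫ p = inv u ≫ (i ⁻¹ᵁ U').ι ≫ i ≫ e ≫ p := by
      rw [IsIso.eq_inv_comp]
      have h2 : a ≫ j = c ≫ U'.ι ≫ e := pullback.condition
      calc u ≫ a ≫ j ≫ p = (u ≫ c) ≫ U'.ι ≫ e ≫ p := by
            rw [← Category.assoc a, h2]; simp only [Category.assoc]
        _ = (i ⁻¹ᵁ U').ι ≫ i ≫ e ≫ p := by
            rw [huc, ← Category.assoc (i ∣_ U'), morphismRestrict_ι]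
            simp only [Category.assoc]
    rw [h1]
    infer_instance
  obtain ⟨a₀, ha₀, -⟩ := Scheme.Pullback.exists_preimage_pullback (f := j) (g := U'.ι ≫ e) t ⟨y, hyU'⟩ hy.symm
  have h2 := K486.SplitGen.mem_smoothLocus_of_etale a (j ≫ p) a₀ ⊤ trivial (by infer_instance)
  rwa [ha₀] at h2

theorem exists_iso (hp : Curv2.IsNodalFamily p) (x : X) (h : AllGen ζ x) :
    ∃ X' : X.Opens, x ∈ X' ∧ IsIso (j ∣_ X') := by
  obtain ⟨hfl, hlfp, -⟩ := id hp
  have hX := K62.Frob.isReduced_of_nodal p hp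
  obtain ⟨X', hx, hX'⟩ := exists_nbhd p x
  refine ⟨X', hx, ?_⟩
  have h1 : Surjective (j ∣_ X') := by
    constructor
    intro w
    obtain ⟨z, hz1, hz2⟩ := exists_isGen w.1
    have h2 := h z (hX' w.1 w.2 z hz2 hz1)
    have h3 : ζ ⤳ w.1 := h2.trans hz1
    have h4 : w.1 ∈ Set.range j := by rw [hj]; exact specializes_iff_mem_closure.1 h3
    obtain ⟨b, hb⟩ := h4
    have hbU : b ∈ j ⁻¹ᵁ X' := by
      change j b ∈ X'
      rw [hb]; exact w.2
    refine ⟨⟨b, hbU⟩, ?_⟩
    apply X'.ι.isOpenEmbedding.injective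
    rw [← Scheme.Hom.comp_apply, morphismRestrict_ι]
    exact hb
  exact isIso_of_isClosedImmersion_of_surjective _

/-- The closed fibre of the closure of a generic point is reduced. -/
theorem isReduced_fiber [IsAlgClosed (FractionRing R)] (hp : Curv2.IsNodalFamily p) (hζ : IsGen ζ)
    [LocallyOfFinitePresentation (j ≫ p)] [Flat (j ≫ p)] [CompactSpace 𝒯]
    (s : Spec (CommRingCat.of R)) (hs : s = IsLocalRing.closedPoint R) :
    IsReduced ((j ≫ p).fiber s) := by
  let r := (Spec (CommRingCat.of R)).fromSpecResidueField s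
  have hpr : IsReduced (pullback p r) := K851.Comp.isReduced_fiber p hp s
  refine Groth.Agent.FlatB.GeomRed.isReduced_of_flat_cover fun y => ?_
  let t := (j ≫ p).fiberι s y
  have ht : (j ≫ p) t = s := by
    have h1 : t ∈ Set.range ((j ≫ p).fiberι s) := ⟨y, rfl⟩
    rw [Scheme.Hom.range_fiberι] at h1
    exact h1
  obtain ⟨t₀, ht₀, ht₁⟩ := IsClosed.exists_closed_singleton (isClosed_closure (s := {t}))
    ⟨t, subset_closure rfl⟩
  have htt : t ⤳ t₀ := specializes_iff_mem_closure.2 ht₀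
  have hpt₀ : p (j t₀) = IsLocalRing.closedPoint R := by
    have h1 : s ⤳ (j ≫ p) t₀ := by
      rw [← ht]
      exact htt.map (j ≫ p).continuous
    have h2 : (j ≫ p) t₀ ⤳ s := by rw [hs]; exact IsLocalRing.specializes_closedPoint _
    exact (h1.antisymm h2).eq.symm.trans hs
  have hcl : IsClosed ({j t₀} : Set X) := by
    have := j.isClosedEmbedding.isClosedMap _ ht₁
    rwa [Set.image_singleton] at this
  have hζt : ζ ⤳ j t₀ := by
    have : j t₀ ∈ Set.range j := ⟨t₀, rfl⟩
    rw [hj] at this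
    exact specializes_iff_mem_closure.2 this
  rcases K373.Local.dich p hp (j t₀) hpt₀ hcl hζ hζt with h | ⟨h, -⟩
  · obtain ⟨X', hx, hiso⟩ := exists_iso p j hj hp _ h
    let v : X'.toScheme ⟶ 𝒯 := inv (j ∣_ X') ≫ (j ⁻¹ᵁ X').ι
    have hv : v ≫ j = X'.ι := by
      rw [Category.assoc, ← morphismRestrict_ι, IsIso.inv_hom_id_assoc]
    have hvp : v ≫ j ≫ p = X'.ι ≫ p := by rw [← Category.assoc, hv]
    have hvo : IsOpenImmersion v := by dsimp [v]; infer_instance
    have h1 : IsReduced (pullback X'.ι (pullback.fst p r)) :=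
      isReduced_of_isOpenImmersion (pullback.snd _ _)
    have h2 : IsReduced (pullback (X'.ι ≫ p) r) :=
      isReduced_of_isOpenImmersion (pullbackRightPullbackFstIso p r X'.ι).inv
    rw [← hvp] at h2
    have h3 : IsReduced (pullback v (pullback.fst (j ≫ p) r)) :=
      isReduced_of_isOpenImmersion (pullbackRightPullbackFstIso (j ≫ p) r v).hom
    have htX : j t ∈ X' := (htt.map j.continuous).mem_open X'.isOpen hx
    have h4 : v ⟨j t, htX⟩ = t := by
      apply j.isClosedEmbedding.injective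
      rw [← Scheme.Hom.comp_apply, hv]
      rfl
    obtain ⟨z, -, hz⟩ := Scheme.Pullback.exists_preimage_pullback (f := v) (g := pullback.fst (j ≫ p) r)
      ⟨j t, htX⟩ y h4
    have h5 : Flat (pullback.snd v (pullback.fst (j ≫ p) r)) := inferInstance
    exact ⟨_, pullback.snd v (pullback.fst (j ≫ p) r), z, hz, h5, h3⟩
  · have h1 := mem_smoothLocus p j hj t₀ h
    have h2 : t ∈ (j ≫ p).smoothLocus := htt.mem_open (j ≫ p).smoothLocus.isOpen h1
    let q := (j ≫ p).fiberToSpecResidueField s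
    have hq : LocallyOfFinitePresentation q := MorphismProperty.pullback_snd _ _ ‹_›
    have hpb : IsPullback ((j ≫ p).fiberι s) q (j ≫ p) r := IsPullback.of_hasPullback _ _
    have h4 := Groth.Agent.S2155.result (j ≫ p) r q ((j ≫ p).fiberι s) hpb (Or.inl inferInstance)
    have h5 : y ∈ q.smoothLocus := by
      have h6 : y ∈ ((j ≫ p).fiberι s ⁻¹' ((j ≫ p).smoothLocus : Set 𝒯)) := h2
      have h7 : y ∈ (q.smoothLocus : Set ((j ≫ p).fiber s)) := by rw [h4]; exact h6
      exact h7
    have hsm : Smooth (q.smoothLocus.ι ≫ q) := by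
      rw [← Scheme.Hom.smoothLocus_eq_top_iff, ← Scheme.Hom.preimage_smoothLocus_eq]
      exact Scheme.Opens.ι_preimage_self _
    have hN' : Pi1.IsNormalScheme (Spec ((Spec (CommRingCat.of R)).residueField s)) :=
      K122.ValBase.isNormalScheme_spec ((Spec (CommRingCat.of R)).residueField s)
    have h6 := isReduced_of_smooth hN' (q.smoothLocus.ι ≫ q)
    exact ⟨_, q.smoothLocus.ι, ⟨y, h5⟩, rfl, inferInstance, h6⟩

end

end K373.Red
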