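import Groth.Agent.SSMod.K373.Clos
import Groth.Agent.SSMod.K373.Red
import Groth.Agent.RatRes.K162.KTop
import Groth.Agent.CurvSt.K901.SchPre

/-!
# The closed fibre of the closure of an exceptional component
-/

set_option autoImplicit false

universe u

open CategoryTheory CategoryTheory.Limits AlgebraicGeometry TopologicalSpace

namespace K373.Core

open K342.P1Locus K342.P1Red K342.Radic K373.GenPt K373.Node Groth.Agent

theorem exists_of_isPullback {P X Y S : Scheme.{u}} {a : P ⟶ X} {b : P ⟶ Y} {f : X ⟶ S} {g : Y ⟶ S}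
    (h : IsPullback a b f g) (x : X) (y : Y) (hxy : f x = g y) : ∃ z : P, a z = x ∧ b z = y := by
  obtain ⟨z, hz1, hz2⟩ := Scheme.Pullback.exists_preimage_pullback x y hxy
  refine ⟨h.isoPullback.inv z, ?_, ?_⟩
  · rw [← Scheme.Hom.comp_apply, h.isoPullback_inv_fst, hz1]
  · rw [← Scheme.Hom.comp_apply, h.isoPullback_inv_snd, hz2]

/-- A morphism from a reduced scheme with set-theoretic image in a closed subscheme factors. -/
theorem exists_lift {𝒯 V S : Scheme.{u}} [IsReduced 𝒯] (h : 𝒯 ⟶ V) (s : S ⟶ V) [IsClosedImmersion s]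
    (hr : Set.range h ⊆ Set.range s) : ∃ l : 𝒯 ⟶ S, l ≫ s = h := by
  have h1 : Surjective (pullback.fst h s) := ⟨fun t => by
    obtain ⟨q, hq⟩ := hr ⟨t, rfl⟩
    obtain ⟨z, hz, -⟩ := Scheme.Pullback.exists_preimage_pullback (f := h) (g := s) t q hq.symm
    exact ⟨z, hz⟩⟩
  have h2 : IsIso (pullback.fst h s) := isIso_of_isClosedImmersion_of_surjective _
  exact ⟨inv (pullback.fst h s) ≫ pullback.snd h s, by
    rw [Category.assoc, ← pullback.condition, IsIso.inv_hom_id_assoc]⟩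

section Closure

variable {R : Type u} [CommRing R] [IsDomain R] [ValuationRing R] [IsAlgClosed (FractionRing R)]
  {V X : Scheme.{u}} [IsAffine V] (φ : V ⟶ Spec (CommRingCat.of R)) [LocallyOfFiniteType φ]
  (f : X ⟶ V) [IsProper f]
  {Ω : Type u} [Field Ω] [IsAlgClosed Ω] (g : Spec (CommRingCat.of Ω) ⟶ Spec (CommRingCat.of R))
  (hg : g (IsLocalRing.closedPoint Ω) = genericPoint (Spec (CommRingCat.of R)))
  {P : Scheme.{u}} (a : P ⟶ X) (b : P ⟶ Spec (CommRingCat.of Ω)) (hP : IsPullback a b (f ≫ φ) g)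
  (Z : Set P) (v c : V) (hv : ∀ x ∈ Z, f (a x) = v) (hvc : v ⤳ c)
  (hc : φ c = IsLocalRing.closedPoint R)
  {𝒯 : Scheme.{u}} (j : 𝒯 ⟶ X) [IsClosedImmersion j] [IsReduced 𝒯] (ζ : X)
  (hj : Set.range j = closure {ζ}) (hζ : ∃ z ∈ Z, a z = ζ) (hZ : Z = a ⁻¹' closure {ζ})

include hg hP hv hvc hc hj hζ hZ

/-- The section of `V` on which the closure of the component lives. -/
theorem exists_sect : ∃ s : Spec (CommRingCat.of R) ⟶ V, s ≫ φ = 𝟙 _ ∧
    s (IsLocalRing.closedPoint R) = c ∧ IsClosedImmersion s ∧ j ≫ f = (j ≫ f ≫ φ) ≫ s := by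
  obtain ⟨z₀, hz₀, hζz⟩ := hζ
  have hfζ : f ζ = v := by rw [← hζz]; exact hv z₀ hz₀
  have hpη : ∀ z : P, (f ≫ φ) (a z) = genericPoint (Spec (CommRingCat.of R)) := fun z => by
    rw [← Scheme.Hom.comp_apply, hP.w, ← hg, Scheme.Hom.comp_apply]
    congr 1
    exact Subsingleton.elim (α := PrimeSpectrum Ω) _ _
  have hφv : φ v = genericPoint (Spec (CommRingCat.of R)) := by
    rw [← hfζ, ← hζz]
    exact hpη z₀
  have hgen : ((genericPoint (Spec (CommRingCat.of R)) : Spec (CommRingCat.of R))).asIdeal = ⊥ := by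
    rw [genericPoint_eq_bot_of_affine]
    rfl
  obtain ⟨s, hs1, hs2, hs3, hs4⟩ := K373.SectV.exists_section φ v c (by rw [hφv, hgen]) hc hvc (by
    intro v' hvv' hφ
    have hcl : IsClosed (Set.range (j ≫ f)) := (j ≫ f).isClosedMap.isClosed_range
    have hvr : v ∈ Set.range (j ≫ f) := by
      have : ζ ∈ Set.range j := by rw [hj]; exact subset_closure rfl
      obtain ⟨t, ht⟩ := this
      exact ⟨t, by rw [Scheme.Hom.comp_apply, ht, hfζ]⟩
    obtain ⟨t, rfl⟩ := hvv'.mem_closed hcl hvr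
    obtain ⟨y, hy, -⟩ := exists_of_isPullback hP (j t) (IsLocalRing.closedPoint Ω) (by
      rw [hg, ← hφv, ← hφ]; rfl)
    have hyZ : y ∈ Z := by
      rw [hZ, Set.mem_preimage, hy, ← hj]
      exact ⟨t, rfl⟩
    rw [Scheme.Hom.comp_apply, ← hy]
    exact hv y hyZ)
  have hr : Set.range (j ≫ f) ⊆ Set.range s := by
    rintro _ ⟨t, rfl⟩
    rw [hs4, ← specializes_iff_mem_closure]
    have h1 : ζ ⤳ j t := by
      rw [specializes_iff_mem_closure, ← hj]; exact ⟨t, rfl⟩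
    have h2 := h1.map f.continuous
    rw [hfζ] at h2
    exact h2
  obtain ⟨l, hl⟩ := exists_lift (j ≫ f) s hr
  refine ⟨s, hs1, hs2, hs3, ?_⟩
  have h1 : j ≫ f ≫ φ = l := by
    rw [← Category.assoc, ← hl, Category.assoc, hs1, Category.comp_id]
  rw [h1, hl]

end Closure

section Fibre

variable {R : Type u} [CommRing R] [IsDomain R] [ValuationRing R]
  {X : Scheme.{u}} (p : X ⟶ Spec (CommRingCat.of R)) (hp : Curv2.IsNodalFamily p)

include hp

/-- A point of the closure of the complement of a closed subset of the closed fibre is a specialization of a generic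
point of the fibre outside the closed subset. -/
theorem exists_gen_of_mem_closure (s : Spec (CommRingCat.of R))
    (T : Set X) (hT : IsClosed T) (x : X) (hx : p x = s) (hxc : x ∈ closure (p ⁻¹' {s} \ T)) :
    ∃ ξ : X, ξ ∉ T ∧ p ξ = s ∧ ξ ⤳ x := by
  obtain ⟨hfl, hlfp, -⟩ := id hp
  let q : p.fiber s ⟶ Spec (CommRingCat.of ((Spec (CommRingCat.of R)).residueField s)) :=
    p.fiberToSpecResidueField s
  have hq : LocallyOfFinitePresentation q := MorphismProperty.pullback_snd _ _ hlfp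
  have hqf : Flat q := MorphismProperty.pullback_snd _ _ hfl
  have hrange : Set.range (p.fiberι s) = p ⁻¹' {s} := p.range_fiberι s
  obtain ⟨x', rfl⟩ : x ∈ Set.range (p.fiberι s) := by rw [hrange]; exact hx
  have hem := (p.fiberι s).isEmbedding
  have h1 : x' ∈ closure (p.fiberι s ⁻¹' Tᶜ) := by
    rw [hem.isInducing.closure_eq_preimage_closure_image, Set.mem_preimage, Set.image_preimage_eq_inter_range,
      hrange, Set.inter_comm]
    exact hxc
  obtain ⟨N, hN, hN'⟩ := exists_nbhd q x'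
  obtain ⟨w, hwN, hwT⟩ := mem_closure_iff.1 h1 N N.isOpen hN
  obtain ⟨z, hz1, hz2⟩ := exists_isGen w
  refine ⟨p.fiberι s z, ?_, ?_, (hN' w hwN z hz2 hz1).map (p.fiberι s).continuous⟩
  · exact hz1.mem_open (hT.isOpen_compl.preimage (p.fiberι s).continuous) hwT
  · have : p.fiberι s z ∈ Set.range (p.fiberι s) := ⟨z, rfl⟩
    rw [hrange] at this
    exact this

theorem dim_fiber_le (s : Spec (CommRingCat.of R)) : topologicalKrullDim (p.fiber s) ≤ 1 := by
  rw [Groth.Agent.S10831.result]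
  exact iSup₂_le fun Y hY => ((hp.2.2 s).1 Y hY).le

theorem isClosed_of_specializes (s : Spec (CommRingCat.of R)) (hs : IsClosed ({s} : Set (Spec (CommRingCat.of R))))
    (x ξ : X) (hx : p x = s) (hξ : p ξ = s) (h : ξ ⤳ x) (hne : ξ ≠ x) : IsClosed ({x} : Set X) := by
  have hrange : Set.range (p.fiberι s) = p ⁻¹' {s} := p.range_fiberι s
  have hcl : IsClosed (p ⁻¹' {s}) := hs.preimage p.continuous
  obtain ⟨x', rfl⟩ : x ∈ Set.range (p.fiberι s) := by rw [hrange]; exact hx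
  obtain ⟨ξ', rfl⟩ : ξ ∈ Set.range (p.fiberι s) := by rw [hrange]; exact hξ
  have hem := (p.fiberι s).isEmbedding
  have h1 : ξ' ⤳ x' := hem.isInducing.specializes_iff.1 h
  refine isClosed_of_closure_subset fun y hy => ?_
  have hy' : p.fiberι s x' ⤳ y := specializes_iff_mem_closure.2 hy
  obtain ⟨y', rfl⟩ : y ∈ Set.range (p.fiberι s) := by
    rw [hrange]
    exact hy'.mem_closed hcl hx
  have h2 : x' ⤳ y' := hem.isInducing.specializes_iff.1 hy'
  have h3 := K162.KTop.eq_of_specializes_of_dim_le_one (dim_fiber_le p hp s) h1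
    (fun h => hne (congrArg _ h)) h2
  rw [h3]
  rfl

end Fibre

section Main

variable {R : Type u} [CommRing R] [IsDomain R] [ValuationRing R] [IsAlgClosed (FractionRing R)]

theorem main {V X D' : Scheme.{u}} [IsAffine V] (φ : V ⟶ Spec (CommRingCat.of R)) [LocallyOfFiniteType φ]
    (f : X ⟶ V) [IsProper f] (hp : Curv2.IsNodalFamily (f ≫ φ))
    (i' : D' ⟶ X) (hi' : Etale (i' ≫ f ≫ φ))
    (hdisj : Disjoint (Set.range i') (DualGr.nonsmoothPts (f ≫ φ)))
    (Ω : Type u) [Field Ω] [IsAlgClosed Ω] (g : Spec (CommRingCat.of Ω) ⟶ Spec (CommRingCat.of R))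
    (hg : g (IsLocalRing.closedPoint Ω) = genericPoint (Spec (CommRingCat.of R)))
    {P : Scheme.{u}} (a : P ⟶ X) (b : P ⟶ Spec (CommRingCat.of Ω)) (hP : IsPullback a b (f ≫ φ) g)
    (Z : Set P) (hZ : Z ∈ irreducibleComponents P) (hZP : IsP1On Ω b Z)
    (hcard : (Z ∩ (a ⁻¹' Set.range i' ∪ DualGr.nonsmoothPts b)).encard ≤ 2)
    (v c : V) (hv : ∀ x ∈ Z, f (a x) = v) (hvc : v ⤳ c) (hc : φ c = IsLocalRing.closedPoint R) :
    ∃ (F : Scheme.{u}) (j : F ⟶ X), IsClosedImmersion j ∧ IsReduced F ∧ ConnectedSpace F ∧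
      Set.range j ⊆ f ⁻¹' {c} ∧
      (∀ x ∈ Set.range j, ∃ ξ ∈ Set.range j, ξ ⤳ x ∧ ¬ IsClosed ({ξ} : Set X)) ∧
      Subsingleton (Coh.HH F (Coh.structureModule F) 1) ∧
      {x : X | x ∈ Set.range j ∧ (x ∈ closure ((f ≫ φ) ⁻¹' {IsLocalRing.closedPoint R} \ Set.range j) ∨
        x ∈ Set.range i')}.encard ≤ 2 := by
  obtain ⟨hfl, hlfp, hfib⟩ := id hp
  let s : Spec (CommRingCat.of R) := IsLocalRing.closedPoint R
  have hsc : IsClosed ({s} : Set (Spec (CommRingCat.of R))) := IsLocalRing.isClosed_singleton_closedPoint R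
  obtain ⟨ζ, 𝒯, j, hjc, hint, hζ, hj, hζZ, hZeq, hπ, hπf, hπl, hP1⟩ :=
    K373.Clos.exists_closure (f ≫ φ) g hg a b hP Z hZ hZP
  obtain ⟨σ₀, h1, h2, h3, h4⟩ := exists_sect φ f g hg a b hP Z v c hv hvc hc j ζ hj hζZ hZeq
  have hprop : IsProper (j ≫ f ≫ φ) := by
    have h5 : IsProper ((j ≫ f ≫ φ) ≫ σ₀) := by rw [← h4]; infer_instance
    exact IsProper.of_comp (j ≫ f ≫ φ) σ₀
  have hcomp : CompactSpace 𝒯 := QuasiCompact.compactSpace_of_compactSpace (j ≫ f ≫ φ)
  have hdom : DenseRange (j ≫ f ≫ φ) := by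
    intro x
    have h5 : genericPoint (Spec (CommRingCat.of R)) ∈ Set.range (j ≫ f ≫ φ) := ⟨_, hπ⟩
    exact closure_mono (Set.singleton_subset_iff.2 h5)
      (specializes_iff_mem_closure.1 (genericPoint_specializes x))
  have hred : IsReduced ((j ≫ f ≫ φ).fiber s) :=
    K373.Red.isReduced_fiber (f ≫ φ) j hj hp hζ s rfl
  obtain ⟨hconn, hH1⟩ := K373.GenFib.closedFiber (j ≫ f ≫ φ) hdom Ω g hg hP1 s
  have hrd := K373.GenFib.hasRelDim (j ≫ f ≫ φ) hdom Ω g hg hP1
  have hci : IsClosedImmersion ((Spec (CommRingCat.of R)).fromSpecResidueField s) :=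
    isClosed_singleton_iff_isClosedImmersion.1 hsc
  have hfι : IsClosedImmersion ((j ≫ f ≫ φ).fiberι s) := MorphismProperty.pullback_fst _ _ hci
  let jF : (j ≫ f ≫ φ).fiber s ⟶ X := (j ≫ f ≫ φ).fiberι s ≫ j
  have hrange : ∀ x : X, x ∈ Set.range jF ↔ ζ ⤳ x ∧ (f ≫ φ) x = s := by
    intro x
    constructor
    · rintro ⟨y, rfl⟩
      refine ⟨?_, ?_⟩
      · rw [specializes_iff_mem_closure, ← hj]
        exact ⟨(j ≫ f ≫ φ).fiberι s y, rfl⟩
      · have h5 : (j ≫ f ≫ φ).fiberι s y ∈ Set.range ((j ≫ f ≫ φ).fiberι s) := ⟨y, rfl⟩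
        rw [Scheme.Hom.range_fiberι] at h5
        exact h5
    · rintro ⟨h5, h6⟩
      rw [specializes_iff_mem_closure, ← hj] at h5
      obtain ⟨t, rfl⟩ := h5
      have h7 : t ∈ Set.range ((j ≫ f ≫ φ).fiberι s) := by
        rw [Scheme.Hom.range_fiberι]
        exact h6
      obtain ⟨y, rfl⟩ := h7
      exact ⟨y, rfl⟩
  have hζη : (f ≫ φ) ζ = genericPoint (Spec (CommRingCat.of R)) := by
    have h5 : ζ ∈ Set.range j := by rw [hj]; exact subset_closure rfl
    obtain ⟨t, rfl⟩ := h5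
    have h6 : (j ≫ f ≫ φ) (genericPoint 𝒯) ⤳ (j ≫ f ≫ φ) t :=
      (genericPoint_specializes t).map (j ≫ f ≫ φ).continuous
    have h7 : j t ⤳ j (genericPoint 𝒯) := by
      rw [specializes_iff_mem_closure, ← hj]
      exact ⟨_, rfl⟩
    have h8 := h7.map (f ≫ φ).continuous
    rw [← hπ]
    exact (h8.antisymm h6).eq
  refine ⟨(j ≫ f ≫ φ).fiber s, jF, inferInstance, hred, hconn, ?_, ?_, hH1, ?_⟩
  · rintro _ ⟨y, rfl⟩
    have h5 := (hrange (jF y)).1 ⟨y, rfl⟩
    let t := (j ≫ f ≫ φ).fiberι s y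
    have h6 : (j ≫ f ≫ φ) t = s := h5.2
    change f (j t) = c
    change (j ≫ f) t = c
    rw [h4, Scheme.Hom.comp_apply, h6, h2]
  · rintro _ ⟨y, rfl⟩
    obtain ⟨z, hz1, hz2⟩ := exists_isGen y
    refine ⟨jF z, ⟨z, rfl⟩, hz1.map jF.continuous, fun hcl => ?_⟩
    have h5 : IsClosed ({z} : Set ↥((j ≫ f ≫ φ).fiber s)) := by
      have h6 : ({z} : Set ↥((j ≫ f ≫ φ).fiber s)) = jF ⁻¹' {jF z} := by
        ext w
        simp only [Set.mem_singleton_iff, Set.mem_preimage]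
        exact ⟨fun h => by rw [h], fun h => jF.isClosedEmbedding.injective h⟩
      rw [h6]
      exact hcl.preimage jF.continuous
    have h6 := hrd s _ hz2.closure_mem
    rw [h5.closure_eq] at h6
    have h7 : topologicalKrullDim ({z} : Set ↥((j ≫ f ≫ φ).fiber s)) ≤ 0 := by
      have : Subsingleton (IrreducibleCloseds ({z} : Set ↥((j ≫ f ≫ φ).fiber s))) := by
        refine ⟨fun A B => ?_⟩
        apply IrreducibleCloseds.ext
        have hA : (A : Set ({z} : Set ↥((j ≫ f ≫ φ).fiber s))) = Set.univ :=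
          A.isIrreducible.nonempty.eq_univ
        have hB : (B : Set ({z} : Set ↥((j ≫ f ≫ φ).fiber s))) = Set.univ :=
          B.isIrreducible.nonempty.eq_univ
        rw [hA, hB]
      exact Order.krullDim_nonpos_of_subsingleton
    rw [h6] at h7
    exact absurd h7 (by norm_num)
  · -- the special points
    let η := genericPoint (Spec (CommRingCat.of R))
    have key : ∀ x : X, x ∈ Set.range jF → (x ∈ closure ((f ≫ φ) ⁻¹' {s} \ Set.range jF) ∨ x ∈ Set.range i') →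
        ∃ σ : Spec (CommRingCat.of R) ⟶ X, σ ≫ f ≫ φ = 𝟙 _ ∧ σ s = x ∧ ζ ⤳ σ η ∧
          (σ η ∈ Set.range i' ∨ σ η ∈ DualGr.nonsmoothPts (f ≫ φ)) := by
      intro x hx hx'
      obtain ⟨hζx, hxs⟩ := (hrange x).1 hx
      rcases hx' with hx' | ⟨d, rfl⟩
      · obtain ⟨ξ, hξ1, hξ2, hξ3⟩ := exists_gen_of_mem_closure (f ≫ φ) hp s (Set.range jF)
          jF.isClosedEmbedding.isClosed_range x hxs hx'
        have hne : ξ ≠ x := fun h => hξ1 (h ▸ hx)
        have hxc := isClosed_of_specializes (f ≫ φ) hp s hsc x ξ hxs hξ2 hξ3 hne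
        have hnot : ¬ AllGen ζ x := fun h => hξ1 ((hrange ξ).2 ⟨h ξ hξ3, hξ2⟩)
        obtain ⟨-, σ, hσ1, hσ2, hσ3⟩ := (K373.Local.dich (f ≫ φ) hp x hxs hxc hζ hζx).resolve_left hnot
        exact ⟨σ, hσ1, hσ2, (hσ3 η).1, Or.inr (hσ3 η).2⟩
      · have hns : i' d ∉ DualGr.nonsmoothPts (f ≫ φ) := fun h => Set.disjoint_left.1 hdisj ⟨d, rfl⟩ h
        have hall := K373.Local.allGen_of_smooth (f ≫ φ) hp hζ hζx hns
        obtain ⟨τ, hτ1, hτ2⟩ := K486.StrChart.exists_section (K373.Local.isStrictlyHenselian R)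
          (i' ≫ f ≫ φ) d hxs
        refine ⟨τ ≫ i', by rw [Category.assoc]; exact hτ1, by rw [Scheme.Hom.comp_apply, hτ2], ?_,
          Or.inl ⟨τ η, rfl⟩⟩
        apply hall
        have h5 := (IsLocalRing.specializes_closedPoint η).map (τ ≫ i').continuous
        have h6 : (τ ≫ i') (IsLocalRing.closedPoint R) = i' d := by rw [Scheme.Hom.comp_apply, hτ2]
        rw [h6] at h5
        exact h5
    have key' : ∀ x : X, x ∈ {x : X | x ∈ Set.range jF ∧ (x ∈ closure ((f ≫ φ) ⁻¹' {s} \ Set.range jF) ∨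
        x ∈ Set.range i')} → ∃ y : X, (∃ σ : Spec (CommRingCat.of R) ⟶ X, σ ≫ f ≫ φ = 𝟙 _ ∧ σ s = x ∧
          σ η = y) ∧ ζ ⤳ y ∧ (y ∈ Set.range i' ∨ y ∈ DualGr.nonsmoothPts (f ≫ φ)) := by
      rintro x ⟨hx, hx'⟩
      obtain ⟨σ, h5, h6, h7, h8⟩ := key x hx hx'
      exact ⟨σ η, ⟨σ, h5, h6, rfl⟩, h7, h8⟩
    have hne : Nonempty X := ⟨ζ⟩
    choose! y hy1 hy2 hy3 using key'
    have hsep : IsSeparated (f ≫ φ) := inferInstance
    refine le_trans ?_ (le_trans (Set.encard_image_le a _) hcard)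
    refine Set.encard_le_encard_of_injOn (f := y) ?_ ?_
    · intro x hx
      obtain ⟨σ, hσ1, hσ2, hσ3⟩ := hy1 x hx
      have h5 : (f ≫ φ) (y x) = η := by
        rw [← hσ3, ← Scheme.Hom.comp_apply, hσ1]
        rfl
      obtain ⟨z, hz, -⟩ := exists_of_isPullback hP (y x) (IsLocalRing.closedPoint Ω) (by rw [h5, hg])
      refine ⟨z, ⟨?_, ?_⟩, hz⟩
      · rw [hZeq, Set.mem_preimage, hz]
        exact specializes_iff_mem_closure.1 (hy2 x hx)
      · rcases hy3 x hx with h6 | h6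
        · left
          rw [Set.mem_preimage, hz]
          exact h6
        · right
          rw [K342.ExcDich.nonsmoothPts_preimage hP (Or.inl hfl), Set.mem_preimage, hz]
          exact h6
    · intro x hx x' hx' hxy
      obtain ⟨σ, hσ1, hσ2, hσ3⟩ := hy1 x hx
      obtain ⟨σ', hσ1', hσ2', hσ3'⟩ := hy1 x' hx'
      have h5 := K901.SchPre.isClosed_coincide (f := f ≫ φ) hσ1 hσ1'
      have h6 : s ∈ {q : Spec (CommRingCat.of R) | σ q = σ' q} := by
        refine (genericPoint_specializes s).mem_closed h5 ?_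
        change σ η = σ' η
        rw [hσ3, hσ3']
        exact hxy
      have h7 : σ s = σ' s := h6
      rw [hσ2, hσ2'] at h7
      exact h7

end Main

end K373.Core
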