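import Groth.Agent.SSMod.K122.ValBase
import Groth.Agent.SSMod.K342.P1Locus
import Groth.Agent.VarietyA.GeomIrrFib
import Groth.Agent.Flat2E.GenericFibre
import Groth.Agent.Pi1.H536.GenusFam
import Groth.Agent.S1365
import Groth.Agent.S1536
import Groth.Agent.S0458
import Groth.Agent.S0002
import Groth.Agent.S10831

/-!
# Degenerations of a projective line over a valuation ring

`π : 𝒯 → Spec R` proper flat, `𝒯` integral, with a geometric generic fibre isomorphic to the projective line and reduced
closed fibre: the closed fibre is a connected curve with vanishing `H¹`.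
-/

set_option autoImplicit false

universe u

open CategoryTheory CategoryTheory.Limits AlgebraicGeometry TopologicalSpace

namespace K373.GenFib

open K342.P1Locus Groth.Agent

variable {R : Type u} [CommRing R] [IsDomain R] [ValuationRing R] [IsAlgClosed (FractionRing R)]
  {𝒯 : Scheme.{u}} [IsIntegral 𝒯] (π : 𝒯 ⟶ Spec (CommRingCat.of R)) (hdom : DenseRange π)

include hdom

omit [ValuationRing R] [IsAlgClosed (FractionRing R)] in
theorem isIntegral_generic : IsIntegral (π.fiber (genericPoint (Spec (CommRingCat.of R)))) := by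
  have h1 := VarietyA.GeomIrr.irreducibleSpace_fiber π hdom
  have h2 := Flat2E.GenericFibre.isReduced_genericFiber π
  exact isIntegral_of_irreducibleSpace_of_isReduced _

theorem geometricallyIntegral :
    GeometricallyIntegral (π.fiberToSpecResidueField (genericPoint (Spec (CommRingCat.of R)))) := by
  have h1 := isIntegral_generic π hdom
  have h2 := K122.ValBase.isAlgClosed_residueField R (genericPoint (Spec (CommRingCat.of R)))
  let κ := (Spec (CommRingCat.of R)).residueField (genericPoint (Spec (CommRingCat.of R)))
  let q : π.fiber (genericPoint (Spec (CommRingCat.of R))) ⟶ Spec (CommRingCat.of κ) :=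
    π.fiberToSpecResidueField (genericPoint (Spec (CommRingCat.of R)))
  have hr : GeometricallyReduced q := Sga3C.GeomRedPerf.geometricallyReduced_of_isReduced q
  have hi : GeometricallyIrreducible q := Fdesc.GeomAlgClosed.geometricallyIrreducible_of_irreducibleSpace q
  exact GeometricallyIntegral.of_geometricallyReduced_of_geometricallyIrreducible q

theorem isIntegral_pullback (Ω : Type u) [Field Ω] (g : Spec (CommRingCat.of Ω) ⟶ Spec (CommRingCat.of R))
    (hg : g (IsLocalRing.closedPoint Ω) = genericPoint (Spec (CommRingCat.of R))) :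
    IsIntegral (pullback π g) := by
  have h0 := geometricallyIntegral π hdom
  rw [← hg] at h0
  let T := Spec (CommRingCat.of R)
  let t : T := g (IsLocalRing.closedPoint Ω)
  let ψ : T.residueField t ⟶ CommRingCat.of Ω := Scheme.descResidueField (Scheme.stalkClosedPointTo g)
  have hψ : Spec.map ψ ≫ T.fromSpecResidueField t = g :=
    Scheme.descResidueField_stalkClosedPointTo_fromSpecResidueField Ω T g
  have h1 : IsPullback (π.fiberι t) (π.fiberToSpecResidueField t) π (T.fromSpecResidueField t) :=
    IsPullback.of_hasPullback _ _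
  have h2 : pullback.fst π g ≫ π = (pullback.snd π g ≫ Spec.map ψ) ≫ T.fromSpecResidueField t := by
    rw [Category.assoc, hψ, pullback.condition]
  have hpb' : IsPullback (h1.lift _ _ h2) (pullback.snd π g) (π.fiberToSpecResidueField t)
      (Spec.map ψ) := by
    refine IsPullback.of_right ?_ (h1.lift_snd _ _ _) h1
    rw [h1.lift_fst, hψ]
    exact IsPullback.of_hasPullback _ _
  exact GeometricallyIntegral.geometrically_isIntegral (Spec.map ψ) _ _ hpb'

theorem topologicalKrullDim_generic [LocallyOfFiniteType π] (Ω : Type u) [Field Ω] [IsAlgClosed Ω]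
    (g : Spec (CommRingCat.of Ω) ⟶ Spec (CommRingCat.of R))
    (hg : g (IsLocalRing.closedPoint Ω) = genericPoint (Spec (CommRingCat.of R)))
    (h1 : IsP1 Ω (pullback.snd π g)) :
    topologicalKrullDim ↥(π.fiber (genericPoint (Spec (CommRingCat.of R)))) = 1 := by
  have h0 := isIntegral_pullback π hdom Ω g hg
  have h3 := h1.isProper
  have h4 := ((isP1_iff (pullback.snd π g)).1 h1).1
  rw [← hg, ← dim_geometric π Ω g]
  exact h4

theorem hasRelDim [LocallyOfFiniteType π] [Flat π] (Ω : Type u) [Field Ω] [IsAlgClosed Ω]
    (g : Spec (CommRingCat.of Ω) ⟶ Spec (CommRingCat.of R))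
    (hg : g (IsLocalRing.closedPoint Ω) = genericPoint (Spec (CommRingCat.of R)))
    (h1 : IsP1 Ω (pullback.snd π g)) : Cyc.HasRelDim π 1 := by
  refine K122.ValBase.hasRelDim_of_generic_aux π _ rfl fun T hT => ?_
  have h2 := topologicalKrullDim_generic π hdom Ω g hg h1
  have h3 := isIntegral_generic π hdom
  rw [irreducibleComponents_eq_singleton] at hT
  rw [Set.mem_singleton_iff.1 hT]
  have h4 : topologicalKrullDim (Set.univ : Set ↥(π.fiber (genericPoint (Spec (CommRingCat.of R))))) =
      topologicalKrullDim ↥(π.fiber (genericPoint (Spec (CommRingCat.of R)))) :=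
    (Homeomorph.Set.univ _).isHomeomorph.topologicalKrullDim_eq
  rw [h4, h2]
  rfl

theorem bijective_appTop [IsProper π] :
    Function.Bijective (π.fiberToSpecResidueField (genericPoint (Spec (CommRingCat.of R)))).appTop := by
  have h1 := isIntegral_generic π hdom
  have h2 := K122.ValBase.isAlgClosed_residueField R (genericPoint (Spec (CommRingCat.of R)))
  let κ := (Spec (CommRingCat.of R)).residueField (genericPoint (Spec (CommRingCat.of R)))
  let q : π.fiber (genericPoint (Spec (CommRingCat.of R))) ⟶ Spec (CommRingCat.of κ) :=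
    π.fiberToSpecResidueField (genericPoint (Spec (CommRingCat.of R)))
  have hq : IsProper q := MorphismProperty.pullback_snd _ _ ‹_›
  have hf := isField_of_universallyClosed κ q
  have hfin := finite_appTop_of_universallyClosed κ q
  let e := (Scheme.ΓSpecIso (CommRingCat.of κ)).commRingCatIsoToRingEquiv
  let _ : Field Γ(π.fiber (genericPoint (Spec (CommRingCat.of R))), ⊤) := hf.toField
  let _ : Algebra κ Γ(π.fiber (genericPoint (Spec (CommRingCat.of R))), ⊤) :=
    (q.appTop.hom.comp (e.symm : κ →+* Γ(Spec (CommRingCat.of κ), ⊤))).toAlgebra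
  have hfin' : Module.Finite κ Γ(π.fiber (genericPoint (Spec (CommRingCat.of R))), ⊤) :=
    hfin.comp (RingHom.Finite.of_surjective _ e.symm.surjective)
  have hb := IsAlgClosed.algebraMap_bijective_of_isIntegral (k := κ)
    (K := Γ(π.fiber (genericPoint (Spec (CommRingCat.of R))), ⊤))
  have h3 : (q.appTop : Γ(Spec (CommRingCat.of κ), ⊤) → _) =
      algebraMap κ Γ(π.fiber (genericPoint (Spec (CommRingCat.of R))), ⊤) ∘ e := by
    ext x
    change q.appTop x = q.appTop (e.symm (e x))
    rw [e.symm_apply_apply]
  change Function.Bijective q.appTop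
  rw [h3]
  exact hb.comp e.bijective

theorem geometricallyConnected [IsProper π] : GeometricallyConnected π := by
  refine (Groth.Agent.S1365.result π (K122.ValBase.isNormalScheme R) ?_ (bijective_appTop π hdom)).2
  intro Z hZ x hx
  rw [irreducibleComponents_eq_singleton] at hZ
  rw [Set.mem_singleton_iff.1 hZ] at hx
  have h1 := hx.image π.continuous
  rw [Set.image_univ, hdom.closure_range] at h1
  exact h1.eq (genericPoint_spec _)

/-- The closed fibre has `h⁰ = 1` and `h¹ = 0`. -/
theorem closedFiber [IsProper π] [Flat π] [LocallyOfFinitePresentation π] (Ω : Type u) [Field Ω] [IsAlgClosed Ω]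
    (g : Spec (CommRingCat.of Ω) ⟶ Spec (CommRingCat.of R))
    (hg : g (IsLocalRing.closedPoint Ω) = genericPoint (Spec (CommRingCat.of R)))
    (h1 : IsP1 Ω (pullback.snd π g)) (s : Spec (CommRingCat.of R)) [IsReduced (π.fiber s)] :
    ConnectedSpace (π.fiber s) ∧ Subsingleton (Coh.HH (π.fiber s) (Coh.structureModule (π.fiber s)) 1) := by
  have hκ := K122.ValBase.isAlgClosed_residueField R s
  let κ := (Spec (CommRingCat.of R)).residueField s
  let q : π.fiber s ⟶ Spec (CommRingCat.of κ) := π.fiberToSpecResidueField s
  have hq : IsProper q := MorphismProperty.pullback_snd _ _ ‹_›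
  have hgc := geometricallyConnected π hdom
  have hqc : GeometricallyConnected q := inferInstanceAs (GeometricallyConnected (π.fiberToSpecResidueField s))
  have hqr : GeometricallyReduced q := Sga3C.GeomRedPerf.geometricallyReduced_of_isReduced q
  let i1 : (π.fiber s).Over (Spec (CommRingCat.of κ)) := ⟨q⟩
  have hconn : ConnectedSpace (π.fiber s) := GeometricallyConnected.connectedSpace_of_subsingleton q
  refine ⟨hconn, ?_⟩
  have h0 : Module.finrank κ (Coh.HH (π.fiber s) (Coh.structureModule (π.fiber s)) 0) = 1 := by
    have a1 : IsProper ((π.fiber s) ↘ (Spec (CommRingCat.of κ))) := hq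
    have a2 : GeometricallyReduced ((π.fiber s) ↘ (Spec (CommRingCat.of κ))) := hqr
    have a3 : GeometricallyConnected ((π.fiber s) ↘ (Spec (CommRingCat.of κ))) := hqc
    exact Groth.Agent.S1536.result κ (π.fiber s)
  have hrd := hasRelDim π hdom Ω g hg h1
  have hdim : topologicalKrullDim (π.fiber s) ≤ 1 := by
    rw [Groth.Agent.S10831.result]
    exact iSup₂_le fun Y hY => by exact_mod_cast (hrd s Y hY).le
  have hN : IsLocallyNoetherian (π.fiber s) := LocallyOfFiniteType.isLocallyNoetherian q
  have hC : CompactSpace (π.fiber s) := QuasiCompact.compactSpace_of_compactSpace q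
  have hNN : IsNoetherian (π.fiber s) := {}
  have h2 : ∀ i, 2 ≤ i → Module.finrank κ (Coh.HH (π.fiber s) (Coh.structureModule (π.fiber s)) i) = 0 := by
    intro i hi
    have : Subsingleton (Coh.HH (π.fiber s) (Coh.structureModule (π.fiber s)) i) :=
      Groth.Agent.S0458.result 1 hdim (Coh.toAb (Coh.structureModule (π.fiber s))) i (by omega)
    exact Module.finrank_zero_of_subsingleton
  let i2 : (pullback π g).Over (Spec (CommRingCat.of Ω)) := ⟨pullback.snd π g⟩
  have hsp : g (IsLocalRing.closedPoint Ω) ⤳
      (Spec (CommRingCat.of R)).fromSpecResidueField s (IsLocalRing.closedPoint κ) := by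
    rw [hg]
    exact genericPoint_specializes _
  obtain ⟨-, h3, -⟩ := Groth.Agent.Pi1.H536.GenusFam.genus_eq π κ
    ((Spec (CommRingCat.of R)).fromSpecResidueField s) (π.fiber s) (π.fiberι s) (IsPullback.of_hasPullback _ _)
    Ω g (pullback π g) (pullback.fst π g) (IsPullback.of_hasPullback _ _) (IsLocalRing.closedPoint κ)
    (IsLocalRing.closedPoint Ω) hsp h0 h2
  have h4 := isIntegral_pullback π hdom Ω g hg
  have h5 := h1.isProper
  have h6 := ((isP1_iff (pullback.snd π g)).1 h1).2
  have h7 : Curv2.genus κ (π.fiber s) = 0 := h3.symm.trans h6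
  have h8 : Module.finrank κ (Coh.HH (π.fiber s) (Coh.structureModule (π.fiber s)) 1) = 0 := h7
  have a1 : IsProper ((π.fiber s) ↘ (Spec (CommRingCat.of κ))) := hq
  have h9 : Module.Finite κ (Coh.HH (π.fiber s) (Coh.structureModule (π.fiber s)) 1) :=
    Groth.Agent.S0002.result κ (π.fiber s) _ (CurvesC.UnitCoh.isCoh_unit (π.fiber s)) 1
  exact Module.finrank_zero_iff.1 h8

end K373.GenFib
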