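import Groth.Agent.SSMod.K373.Node
import Groth.Agent.S0254
import Groth.Agent.S2155
import Groth.Agent.SSMod.K342.ExcDich

/-!
# Generic points of nodal families over valuation rings

At a closed point `x` of the closed fibre of a nodal family over a valuation ring with algebraically closed fraction
field, a generic point `ζ` specializing to `x` either specializes to all generizations of `x`, or its closure is one of two
smooth branches, and then there is a section through `x` in the non-smooth locus which lies in the closure of `ζ`.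
-/

set_option autoImplicit false

universe u

open CategoryTheory CategoryTheory.Limits AlgebraicGeometry TopologicalSpace

namespace K373.Local

open Groth.Agent.Models.NodeRing K373.GenPt K373.Branch K373.Node

theorem isStrictlyHenselian (R : Type u) [CommRing R] [IsDomain R] [ValuationRing R]
    [IsAlgClosed (FractionRing R)] : EtCoh.IsStrictlyHenselianLocalRing R := by
  have := K263.RFGauss.isIntegrallyClosed_of_valuationRing R
  have h := Groth.Agent.S0254.result R
  exact ⟨h.1, h.2⟩

/-- In a nodal family a closed point of its fibre is smooth or a node. -/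
theorem smooth_or_node {S X : Scheme.{u}} (p : X ⟶ S) (hp : Curv2.IsNodalFamily p)
    (x : X) (hcl : IsClosed ({x} : Set X)) :
    x ∉ DualGr.nonsmoothPts p ∨ @Curv2.IsNode (S.residueField (p.base x)) _ (p.fiber (p.base x))
      ⟨p.fiberToSpecResidueField (p.base x)⟩ (p.asFiber x) := by
  obtain ⟨hfl, hlfp, hfib⟩ := hp
  have h1 := (hfib (p x)).2
  have h2 : IsClosed ({p.asFiber x} : Set (p.fiber (p x))) := by
    have h3 : ({p.asFiber x} : Set (p.fiber (p x))) = p.fiberι (p x) ⁻¹' {x} := by
      ext z
      simp only [Set.mem_singleton_iff, Set.mem_preimage]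
      constructor
      · rintro rfl
        exact p.fiberι_asFiber x
      · intro h
        exact (p.fiberι _).isEmbedding.injective (h.trans (p.fiberι_asFiber x).symm)
    rw [h3]
    exact hcl.preimage (p.fiberι (p x)).continuous
  rcases h1 (p.asFiber x) h2 with ⟨V, hV, hs⟩ | h
  · left
    rw [K342.ExcDich.nonsmoothPts_eq, Set.mem_compl_iff, not_not]
    let q := p.fiberToSpecResidueField (p x)
    have hq : LocallyOfFinitePresentation q := MorphismProperty.pullback_snd _ _ hlfp
    have hpb : IsPullback (p.fiberι (p x)) q p (S.fromSpecResidueField (p x)) := IsPullback.of_hasPullback _ _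
    have h4 := Groth.Agent.S2155.result p (S.fromSpecResidueField (p x)) q (p.fiberι (p x)) hpb (Or.inl hfl)
    have h5 : p.asFiber x ∈ q.smoothLocus := by
      have h6 : V.ι ⁻¹ᵁ q.smoothLocus = ⊤ := by
        rw [Scheme.Hom.preimage_smoothLocus_eq]
        have : Smooth (V.ι ≫ q) := hs
        rw [Scheme.Hom.smoothLocus_eq_top]
      have h7 : (⟨p.asFiber x, hV⟩ : V) ∈ V.ι ⁻¹ᵁ q.smoothLocus := by rw [h6]; trivial
      exact h7
    have h6 : p.asFiber x ∈ (q.smoothLocus : Set (p.fiber (p x))) := h5
    rw [h4] at h6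
    have h7 : p.fiberι (p x) (p.asFiber x) ∈ p.smoothLocus := h6
    rw [p.fiberι_asFiber] at h7
    exact h7
  · right
    exact h

variable {R : Type u} [CommRing R] [IsDomain R] [ValuationRing R] [IsAlgClosed (FractionRing R)]
  {X : Scheme.{u}} (p : X ⟶ Spec (CommRingCat.of R)) (hp : Curv2.IsNodalFamily p)

include hp

theorem allGen_of_smooth {ζ x : X} (hζ : IsGen ζ) (h : ζ ⤳ x) (hx : x ∉ DualGr.nonsmoothPts p) :
    AllGen ζ x := by
  obtain ⟨hfl, hlfp, -⟩ := id hp
  rw [K342.ExcDich.nonsmoothPts_eq, Set.mem_compl_iff, not_not] at hx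
  exact K373.Node.allGen_of_smooth (K122.ValBase.isNormalScheme R) p hζ h hx

theorem dich (x : X) (hx : p x = IsLocalRing.closedPoint R) (hcl : IsClosed ({x} : Set X)) {ζ : X}
    (hζ : IsGen ζ) (h : ζ ⤳ x) :
    AllGen ζ x ∨ (BrNbhd p ζ x ∧ ∃ σ : Spec (CommRingCat.of R) ⟶ X, σ ≫ p = 𝟙 _ ∧
      σ (IsLocalRing.closedPoint R) = x ∧ ∀ q, ζ ⤳ σ q ∧ σ q ∈ DualGr.nonsmoothPts p) := by
  obtain ⟨hfl, hlfp, -⟩ := id hp
  have hN := K122.ValBase.isNormalScheme R
  have hI := K263.RFGauss.isIntegrallyClosed_of_valuationRing R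
  by_cases hs : x ∉ DualGr.nonsmoothPts p
  · exact Or.inl (allGen_of_smooth p hp hζ h hs)
  have hn := (smooth_or_node p hp x hcl).resolve_left hs
  rw [K342.ExcDich.nonsmoothPts_eq, Set.mem_compl_iff, not_not] at hs
  obtain ⟨a, U, e, he, y, rfl, g, hge, hg⟩ :=
    K486.StrChart.exists_chart (isStrictlyHenselian R) p hp x hx hn
  by_cases ha : a = 0
  · have hu := K486.SplitGen.uu_mem p e g hg y hs
    have hv := K486.SplitGen.vv_mem p e g hg y hs
    rcases K373.Node.dich hN p e g hg ha hζ y hu hv h with h1 | h1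
    · exact Or.inl h1
    · refine Or.inr ⟨h1, ?_⟩
      obtain ⟨σ, h2, h3, h4⟩ := K373.Node.exists_sec hN p e g hg ha (isStrictlyHenselian R) hζ y hu hv h hx
      exact ⟨σ, h2, h3, h4⟩
  · left
    have h1 : IsDomain (W R a) := K866.NodeDom.isDomain ha
    have h2 : IsIntegrallyClosed (W R a) := K373.NodeNormal.isIntegrallyClosed ha
    have h3 := (Groth.Agent.Ega4dA.SmoothStalk.stalk_of_smooth
      (K122.ValBase.isNormalScheme_spec (W R a)) g y).1
    exact allGen_of_stalk hζ e (Flat.generalizingMap e) y h3 h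

end K373.Local
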