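import Groth.Agent.SSMod.K373.Branch

/-!
# Generic points through a node

`ζ` a generic point of `X`, flat over a normal domain `R`, and `x` a specialization of `ζ`. If `X` is étale locally at
`x` étale over `Spec R[u,v]/(uv)`, then either all generizations of `x` are specializations of `ζ`, or the closure of
`ζ` is étale locally at `x` one of the two smooth branches.
-/

set_option autoImplicit false

universe u

open CategoryTheory CategoryTheory.Limits AlgebraicGeometry TopologicalSpace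

namespace K373.Node

open Groth.Agent.Models.NodeRing K373.GenPt K373.Branch

/-- All generizations of `x` are specializations of `ζ`. -/
def AllGen {X : Scheme.{u}} (ζ x : X) : Prop := ∀ z : X, z ⤳ x → ζ ⤳ z

/-- The closure of `ζ` is smooth étale locally at `x`. -/
def BrNbhd {R : Type u} [CommRing R] {X : Scheme.{u}} (p : X ⟶ Spec (CommRingCat.of R)) (ζ x : X) : Prop :=
  ∃ (U U₁ : Scheme.{u}) (e : U ⟶ X) (_ : Etale e) (i : U₁ ⟶ U) (_ : IsClosedImmersion i)
    (_ : Smooth (i ≫ e ≫ p)) (y : U) (_ : e y = x) (U' : U.Opens), y ∈ U' ∧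
      ∀ w ∈ U', w ∈ Set.range i ↔ ζ ⤳ e w

theorem allGen_of_stalk {X U : Scheme.{u}} {ζ : X} (hζ : IsGen ζ) (e : U ⟶ X) (he : GeneralizingMap e)
    (y : U) (hy : IsDomain (U.presheaf.stalk y)) (h : ζ ⤳ e y) : AllGen ζ (e y) := by
  obtain ⟨ξ, hξ1, hξ2⟩ := exists_generic_of_isDomain_stalk y
  obtain ⟨z, hz, rfl⟩ := he h
  have h1 : e ξ = e z := hζ _ ((hξ2 z hz).map e.continuous)
  intro w hw
  obtain ⟨w', hw', rfl⟩ := he hw
  rw [← h1]
  exact (hξ2 w' hw').map e.continuous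

section

variable {R : Type u} [CommRing R] [IsDomain R] (hN : Pi1.IsNormalScheme (Spec (CommRingCat.of R)))
  {X : Scheme.{u}} (p : X ⟶ Spec (CommRingCat.of R)) [LocallyOfFinitePresentation p]

include hN

omit [IsDomain R] in
theorem isDomain_stalk_of_smooth {x : X} (hx : x ∈ p.smoothLocus) :
    IsDomain ((p.smoothLocus : Scheme.{u}).presheaf.stalk ⟨x, hx⟩) := by
  have hs : Smooth (p.smoothLocus.ι ≫ p) := by
    rw [← Scheme.Hom.smoothLocus_eq_top_iff, ← Scheme.Hom.preimage_smoothLocus_eq]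
    exact Scheme.Opens.ι_preimage_self _
  exact (Groth.Agent.Ega4dA.SmoothStalk.stalk_of_smooth hN (p.smoothLocus.ι ≫ p) ⟨x, hx⟩).1

omit [IsDomain R] in
theorem allGen_of_smooth {ζ x : X} (hζ : IsGen ζ) (h : ζ ⤳ x) (hx : x ∈ p.smoothLocus) : AllGen ζ x :=
  allGen_of_stalk hζ p.smoothLocus.ι (Flat.generalizingMap _) ⟨x, hx⟩ (isDomain_stalk_of_smooth hN p hx) h

end

section Chart

variable {R : Type u} [CommRing R] [IsDomain R] (hN : Pi1.IsNormalScheme (Spec (CommRingCat.of R)))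
  {X U : Scheme.{u}} (p : X ⟶ Spec (CommRingCat.of R)) [Flat p] [LocallyOfFinitePresentation p]
  {a : R} (e : U ⟶ X) [Etale e] (g : U ⟶ Spec (CommRingCat.of (W R a))) [Etale g]
  (hg : g ≫ Spec.map (CommRingCat.ofHom (algebraMap R (W R a))) = e ≫ p)

include hN in
/-- If the first branch through `y` lies over `ζ` and the second does not. -/
theorem brNbhd_of (hg : g ≫ Spec.map (CommRingCat.ofHom (algebraMap R (W R a))) = e ≫ p) (b b' : Br R a)
    (h' : b'.t = b.s) (h0 : b.t * b'.t = 0) {ζ : X} (hζ : IsGen ζ)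
    (y ζ₁ ζ₂ : U)
    (hζ₁ : ∀ z : U, b.t ∈ (g z).asIdeal → z ⤳ y → ζ₁ ⤳ z)
    (hζ₂ : ∀ z : U, b'.t ∈ (g z).asIdeal → z ⤳ y → ζ₂ ⤳ z)
    (h1 : e ζ₁ = ζ) (h2 : e ζ₂ ≠ ζ) : BrNbhd p ζ (e y) := by
  have hge := Flat.generalizingMap e
  have hc := isClosedImmersion_fst b g
  have hs : Smooth (pullback.fst g (Spec.map (CommRingCat.ofHom b.c)) ≫ e ≫ p) := by
    rw [← hg]; exact smooth_fst b g
  obtain ⟨U', hy, hU'⟩ := exists_nbhd (e ≫ p) y
  refine ⟨U, _, e, inferInstance, pullback.fst g (Spec.map (CommRingCat.ofHom b.c)), hc, hs, y, rfl, U', hy, ?_⟩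
  intro w hw
  rw [mem_range_iff]
  constructor
  · intro hw1
    obtain ⟨z, hzw, hz1, hz2⟩ := exists_isGen_branch b g b' h' h0 w hw1
    have h3 := hU' w hw z hz2 hzw
    have h4 := hz2 _ (hζ₁ z hz1 h3)
    rw [← h1, h4]
    exact hzw.map e.continuous
  · intro hw1
    obtain ⟨z', hz', hez'⟩ := hge hw1
    obtain ⟨z, hz1, hz2⟩ := exists_isGen z'
    have h3 : e z = ζ := hζ _ (hez' ▸ hz1.map e.continuous)
    have hzw : z ⤳ w := hz1.trans hz'
    have h4 := hU' w hw z hz2 hzw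
    have h5 : b.t ∈ (g z).asIdeal := by
      by_contra hcon
      have h6 : b'.t ∈ (g z).asIdeal := by
        have h7 : b.t * b'.t ∈ (g z).asIdeal := by rw [h0]; exact Ideal.zero_mem _
        exact ((g z).isPrime.mem_or_mem h7).resolve_left hcon
      have h7 := hz2 _ (hζ₂ z h6 h4)
      rw [h7] at h2
      exact h2 h3
    rw [← mem_range_iff] at h5 ⊢
    exact hzw.mem_closed (pullback.fst g (Spec.map (CommRingCat.ofHom b.c))).isClosedEmbedding.isClosed_range h5

variable (ha : a = 0)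

include hN hg ha in
theorem dich {ζ : X} (hζ : IsGen ζ) (y : U) (hu : uu R a ∈ (g y).asIdeal) (hv : vv R a ∈ (g y).asIdeal)
    (h : ζ ⤳ e y) : AllGen ζ (e y) ∨ BrNbhd p ζ (e y) := by
  have huv : uu R a * vv R a = 0 := by rw [uu_mul_vv, ha, map_zero]
  have hvu : vv R a * uu R a = 0 := by rw [mul_comm]; exact huv
  obtain ⟨ζ₁, h11, h12, h13, h14, h15⟩ := exists_zeta (br₁ ha) g hN (br₂ ha) rfl huv y hu
  obtain ⟨ζ₂, h21, h22, h23, h24, h25⟩ := exists_zeta (br₂ ha) g hN (br₁ ha) rfl hvu y hv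
  by_cases h1 : e ζ₁ = ζ
  · by_cases h2 : e ζ₂ = ζ
    · left
      intro z hz
      obtain ⟨w, hw, rfl⟩ := Flat.generalizingMap e hz
      have h3 : uu R a * vv R a ∈ (g w).asIdeal := by rw [huv]; exact Ideal.zero_mem _
      rcases (g w).isPrime.mem_or_mem h3 with h3 | h3
      · rw [← h1]
        exact (h15 w h3 hw).map e.continuous
      · rw [← h2]
        exact (h25 w h3 hw).map e.continuous
    · right
      exact brNbhd_of hN p e g hg (br₁ ha) (br₂ ha) rfl huv hζ y ζ₁ ζ₂ h15 h25 h1 h2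
  · right
    refine brNbhd_of hN p e g hg (br₂ ha) (br₁ ha) rfl hvu hζ y ζ₂ ζ₁ h25 h15 ?_ h1
    obtain ⟨w, hw, hew⟩ := Flat.generalizingMap e h
    have h3 : uu R a * vv R a ∈ (g w).asIdeal := by rw [huv]; exact Ideal.zero_mem _
    rcases (g w).isPrime.mem_or_mem h3 with h3 | h3
    · exact absurd (hζ _ (hew ▸ (h15 w h3 hw).map e.continuous)) h1
    · exact hζ _ (hew ▸ (h25 w h3 hw).map e.continuous)

include hN hg ha in
/-- Points on both branches are not smooth. -/
theorem notMem_smoothLocus (w : U) (hu : uu R a ∈ (g w).asIdeal) (hv : vv R a ∈ (g w).asIdeal) :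
    e w ∉ p.smoothLocus := by
  intro hs
  have huv : uu R a * vv R a = 0 := by rw [uu_mul_vv, ha, map_zero]
  have hvu : vv R a * uu R a = 0 := by rw [mul_comm]; exact huv
  obtain ⟨ζ₁, h11, h12, h13, h14, h15⟩ := exists_zeta (br₁ ha) g hN (br₂ ha) rfl huv w hu
  obtain ⟨ζ₂, h21, h22, h23, h24, h25⟩ := exists_zeta (br₂ ha) g hN (br₁ ha) rfl hvu w hv
  let O : U.Opens := e ⁻¹ᵁ p.smoothLocus
  have hsm : Smooth (p.smoothLocus.ι ≫ p) := by
    rw [← Scheme.Hom.smoothLocus_eq_top_iff, ← Scheme.Hom.preimage_smoothLocus_eq]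
    exact Scheme.Opens.ι_preimage_self _
  have hO : Smooth (O.ι ≫ e ≫ p) := by
    have h1 : O.ι ≫ e ≫ p = (e ∣_ p.smoothLocus) ≫ p.smoothLocus.ι ≫ p := by
      simp only [← Category.assoc]
      rw [morphismRestrict_ι]
    rw [h1]
    infer_instance
  have hd := (Groth.Agent.Ega4dA.SmoothStalk.stalk_of_smooth hN (O.ι ≫ e ≫ p) ⟨w, hs⟩).1
  obtain ⟨ξ, hξ1, hξ2⟩ := exists_generic_of_isDomain_stalk (X := O.toScheme) ⟨w, hs⟩
  have key : ∀ ζ : U, IsGen ζ → ζ ⤳ w → ξ.1 = ζ := by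
    intro ζ h1 h2
    have h3 : ζ ∈ O := h2.mem_open O.isOpen hs
    have h4 : (⟨ζ, h3⟩ : O.toScheme) ⤳ ⟨w, hs⟩ :=
      O.ι.isOpenEmbedding.isInducing.specializes_iff.1 h2
    exact h1 _ ((hξ2 _ h4).map O.ι.continuous)
  have h1 := (key ζ₁ h13 h14).symm.trans (key ζ₂ h23 h24)
  rw [h1] at h12
  exact h12 h21

include hN hg ha in
/-- The section through the singular locus. -/
theorem exists_sec [IsLocalRing R] (hR : EtCoh.IsStrictlyHenselianLocalRing R) {ζ : X} (hζ : IsGen ζ) (y : U)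
    (hu : uu R a ∈ (g y).asIdeal) (hv : vv R a ∈ (g y).asIdeal)
    (h : ζ ⤳ e y) (hy : p (e y) = IsLocalRing.closedPoint R) :
    ∃ σ : Spec (CommRingCat.of R) ⟶ X, σ ≫ p = 𝟙 _ ∧ σ (IsLocalRing.closedPoint R) = e y ∧
      ∀ q, ζ ⤳ σ q ∧ σ q ∉ p.smoothLocus := by
  have huv : uu R a * vv R a = 0 := by rw [uu_mul_vv, ha, map_zero]
  have hvu : vv R a * uu R a = 0 := by rw [mul_comm]; exact huv
  obtain ⟨ζ₁, h11, h12, h13, h14, h15⟩ := exists_zeta (br₁ ha) g hN (br₂ ha) rfl huv y hu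
  obtain ⟨ζ₂, h21, h22, h23, h24, h25⟩ := exists_zeta (br₂ ha) g hN (br₁ ha) rfl hvu y hv
  let z0 := K486.SplitGen.zsS R ha
  have hz0 := K486.SplitGen.zsS_apply R ha (g y) hu hv
  obtain ⟨y', hy1, hy2⟩ := Scheme.Pullback.exists_preimage_pullback (f := g) (g := z0) y _ hz0.symm
  have het : Etale (pullback.snd g z0) := MorphismProperty.pullback_snd _ _ ‹_›
  have hstr : pullback.fst g z0 ≫ e ≫ p = pullback.snd g z0 := by
    rw [← hg, ← Category.assoc, pullback.condition, Category.assoc, K486.SplitGen.zsS_str, Category.comp_id]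
  have hcl : pullback.snd g z0 y' = IsLocalRing.closedPoint R := by
    rw [← hy, ← hy1, ← hstr]
    rfl
  obtain ⟨s, hs1, hs2⟩ := K486.StrChart.exists_section hR (pullback.snd g z0) y' hcl
  refine ⟨s ≫ pullback.fst g z0 ≫ e, ?_, ?_, fun q => ?_⟩
  · rw [Category.assoc, Category.assoc, hstr, hs1]
  · rw [Scheme.Hom.comp_apply, Scheme.Hom.comp_apply, hs2, hy1]
  · -- the point `w` of `U`
    let w : U := pullback.fst g z0 (s q)
    have hgw : g w = z0 (pullback.snd g z0 (s q)) := by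
      change (pullback.fst g z0 ≫ g) (s q) = (pullback.snd g z0 ≫ z0) (s q)
      rw [pullback.condition]
    have huw : uu R a ∈ (g w).asIdeal := by
      rw [hgw]
      change K486.SplitGen.zs R ha (uu R a) ∈ (pullback.snd g z0 (s q)).asIdeal
      rw [K486.SplitGen.zs_uu]
      exact Ideal.zero_mem _
    have hvw : vv R a ∈ (g w).asIdeal := by
      rw [hgw]
      change K486.SplitGen.zs R ha (vv R a) ∈ (pullback.snd g z0 (s q)).asIdeal
      rw [K486.SplitGen.zs_vv]
      exact Ideal.zero_mem _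
    have hwy : w ⤳ y := by
      have h1 : q ⤳ (IsLocalRing.closedPoint R : Spec (CommRingCat.of R)) := IsLocalRing.specializes_closedPoint q
      have h2 := h1.map (s ≫ pullback.fst g z0).continuous
      have h3 : (s ≫ pullback.fst g z0) (IsLocalRing.closedPoint R) = y := by
        rw [Scheme.Hom.comp_apply, hs2, hy1]
      rw [h3] at h2
      exact h2
    refine ⟨?_, notMem_smoothLocus hN p e g hg ha w huw hvw⟩
    change ζ ⤳ e w
    obtain ⟨v, hv', hev⟩ := Flat.generalizingMap e h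
    have h3 : uu R a * vv R a ∈ (g v).asIdeal := by rw [huv]; exact Ideal.zero_mem _
    rcases (g v).isPrime.mem_or_mem h3 with h3 | h3
    · have h4 : e ζ₁ = ζ := hζ _ (hev ▸ (h15 v h3 hv').map e.continuous)
      rw [← h4]
      exact (h15 w huw hwy).map e.continuous
    · have h4 : e ζ₂ = ζ := hζ _ (hev ▸ (h25 v h3 hv').map e.continuous)
      rw [← h4]
      exact (h25 w hvw hwy).map e.continuous

end Chart

end K373.Node
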